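import Mathlib
import Cfsg.Agent.H78.CodB
import Cfsg.Agent.H940.Basic
import Cfsg.Agent.GpLn.Quot
import Cfsg.Agent.Lib.ElemAbGL
import Cfsg.Agent.Lib.Zsigmondy
import Cfsg.Agent.H487.SchurPerfect
import Cfsg.Agent.LieClassical.SLGen
import Cfsg.Agent.H60.MultA
import Cfsg.Agent.CharDeep.FrobKernel
import Cfsg.Agent.S2392
import Cfsg.Agent.H615.SLSteinberg
import Cfsg.Agent.Blocks.ExistsModular
import Cfsg.Agent.H446.SmallCross
import Cfsg.Agent.H761.LieExt
import Cfsg.Agent.S4198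
import Cfsg.Agent.FastGrp
import Cfsg.Agent.Prune
set_option linter.all false

section
prune_inst 0x7ff1f8f99ba811deffff7e3fffd9dffc3284cfffefdff90bffe8799fafdf230209c5fb8d0de010fe0ed6e09410b87813fbffdeffe86bfc7ffffd5ff45ffbee1fe5ffbd0811968c340f3c6ff793f07f8e7f3fffffffffffffffffffffffffffbeffffffffffff

-- part: H78/CodI
section
prune_inst 0x4020450c4000000000000000000004010001000024000008220000000003000002010004801400000022000000000000000040000000000000000000000000000a000010000004000086000000000000000000000000000000000000000000000000000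
set_option linter.all false
open scoped Cfsg.Agent.FastGrp

-- part: H78/CodC
section
/-!
# Subgroups of an extension by an abelian normal subgroup of `Big` type

* `dvd_index` : if `V` is not contained in the derived subgroup of `K ≥ V` then `|V|` divides `|G : K|`;
* `not_le_commutator` : a `p`-subgroup `A ≥ V` centralized modulo `V` by a `p'`-element acting
  nontrivially on `V` does not contain `V` in its derived subgroup;
* `two_sides` : the argument with two opposite subgroups.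
-/

set_option autoImplicit false
set_option linter.unusedSectionVars false

namespace Cfsg.Agent.H78.CodC

open Cfsg Cfsg.Agent.Characters Cfsg.Agent.H686.CharKit
open scoped commutatorElement

universe u

variable {G : Type u} [Group G] [Finite G]

theorem dvd_index {V : Subgroup G} (hB : CodA.Big V) {K : Subgroup G} (hVK : V ≤ K)
    (h : ¬ V ≤ ⁅K, K⁆) : Nat.card V ∣ K.index := by
  obtain ⟨v, hv, hvK⟩ := SetLike.not_le_iff_exists.1 h
  have h1 : Abelianization.of (⟨v, hVK hv⟩ : K) ≠ 1 := by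
    intro h2
    apply hvK
    have h3 : (⟨v, hVK hv⟩ : K) ∈ commutator K := by
      rw [← Abelianization.ker_of]
      exact h2
    have h4 : (commutator K).map K.subtype = ⁅K, K⁆ := Subgroup.map_subtype_commutator K
    rw [← h4]
    exact ⟨_, h3, rfl⟩
  obtain ⟨μ, hμ⟩ := CommGroup.exists_apply_ne_one_of_hasEnoughRootsOfUnity (Abelianization K) ℂ h1
  exact CodA.dvd_of_lin hB (μ.comp Abelianization.of) ⟨⟨v, hVK hv⟩, hv, hμ⟩

/-- the map `v ↦ [v, x]` on an abelian normal subgroup -/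
theorem delta_mul {V : Subgroup G} [hV : V.Normal] (hab : ∀ x ∈ V, ∀ y ∈ V, x * y = y * x) (x : G) {v w : G}
    (hv : v ∈ V) (hw : w ∈ V) : ⁅v * w, x⁆ = ⁅v, x⁆ * ⁅w, x⁆ := by
  have h1 : x * v⁻¹ * x⁻¹ ∈ V := hV.conj_mem _ (V.inv_mem hv) x
  have h2 : x * w⁻¹ * x⁻¹ ∈ V := hV.conj_mem _ (V.inv_mem hw) x
  rw [commutatorElement_def, commutatorElement_def, commutatorElement_def]
  calc v * w * x * (v * w)⁻¹ * x⁻¹ = v * (w * (x * w⁻¹ * x⁻¹)) * (x * v⁻¹ * x⁻¹) := by group
    _ = v * (x * v⁻¹ * x⁻¹) * (w * (x * w⁻¹ * x⁻¹)) := by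
        rw [mul_assoc, hab _ (V.mul_mem hw h2) _ h1, ← mul_assoc]
    _ = _ := by group

theorem not_le_commutator {p : ℕ} [Fact p.Prime] {V : Subgroup G} [hV : V.Normal]
    (hab : ∀ x ∈ V, ∀ y ∈ V, x * y = y * x) {A : Subgroup G} (hA : IsPGroup p A) (hVA : V ≤ A) {x : G}
    (hx : ∀ a ∈ A, ⁅a, x⁆ ∈ V) {m : ℕ} (hm : ¬ p ∣ m) (hxm : ∀ v ∈ V, x ^ m * v = v * x ^ m)
    (hnt : ∃ v ∈ V, x * v ≠ v * x) : ¬ V ≤ ⁅A, A⁆ := by
  intro hle
  -- the subgroup `[V, A]`
  set D : Subgroup G := ⁅V, A⁆ with hD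
  have hDV : D ≤ V := Subgroup.commutator_le_left V A
  have hAD : A ≤ Subgroup.normalizer (D : Set G) := fun a ha =>
    H940.mem_normalizer_commutator (Subgroup.normalizer_eq_top_iff.2 hV ▸ Subgroup.mem_top a)
      (Subgroup.le_normalizer ha)
  have hmemD : ∀ v ∈ V, ∀ a ∈ A, ⁅v, a⁆ ∈ D := fun v hv a ha => Subgroup.commutator_mem_commutator hv ha
  -- `δ` is a homomorphism `A → V / D`
  have hδ : ∀ a ∈ A, ∀ b ∈ A, ⁅a * b, x⁆ * (⁅a, x⁆ * ⁅b, x⁆)⁻¹ ∈ D := by
    intro a ha b hb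
    have h1 : ⁅a * b, x⁆ = a * ⁅b, x⁆ * a⁻¹ * ⁅a, x⁆ := by
      rw [commutatorElement_def, commutatorElement_def, commutatorElement_def]; group
    have h2 : a * ⁅b, x⁆ * a⁻¹ = ⁅⁅b, x⁆, a⁆⁻¹ * ⁅b, x⁆ := by
      rw [commutatorElement_def ⁅b, x⁆ a]; group
    have h3 := D.inv_mem (hmemD _ (hx b hb) a ha)
    rw [h1, h2, hab _ (hx a ha) _ (hx b hb)]
    have h4 : ⁅⁅b, x⁆, a⁆⁻¹ * ⁅b, x⁆ * ⁅a, x⁆ * (⁅b, x⁆ * ⁅a, x⁆)⁻¹ = ⁅⁅b, x⁆, a⁆⁻¹ := by group
    rw [h4]
    exact h3
  -- hence `[v, x] ∈ D` for `v ∈ [A, A]`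
  have hker : ∀ c ∈ ⁅A, A⁆, ⁅c, x⁆ ∈ D := by
    -- quotient of `A` by `D`
    have hDn : (D.subgroupOf A).Normal := by
      refine ⟨fun d hd a => ?_⟩
      rw [Subgroup.mem_subgroupOf] at hd ⊢
      exact (Subgroup.mem_normalizer_iff.1 (hAD a.2) d).1 hd
    let δ : A →* A ⧸ (D.subgroupOf A) :=
      { toFun := fun a => QuotientGroup.mk' (D.subgroupOf A) ⟨⁅(a : G), x⁆, hVA (hx a a.2)⟩
        map_one' := by
          rw [QuotientGroup.mk'_apply, QuotientGroup.eq_one_iff, Subgroup.mem_subgroupOf]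
          simp
        map_mul' := by
          intro a b
          rw [← map_mul]
          apply (QuotientGroup.eq_iff_div_mem).2
          rw [Subgroup.mem_subgroupOf]
          have := hδ a a.2 b b.2
          simpa only [div_eq_mul_inv, _root_.Subgroup.coe_mul, _root_.MulMemClass.mk_mul_mk, _root_.InvMemClass.coe_inv, _root_.mul_inv_rev, _root_.commutatorElement_inv] using this }
    have hcomm : ∀ a b : A, δ a * δ b = δ b * δ a := by
      intro a b
      change QuotientGroup.mk' (D.subgroupOf A) _ * QuotientGroup.mk' (D.subgroupOf A) _ =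
        QuotientGroup.mk' (D.subgroupOf A) _ * QuotientGroup.mk' (D.subgroupOf A) _
      rw [← map_mul, ← map_mul]
      congr 1
      exact Subtype.ext (hab _ (hx a a.2) _ (hx b b.2))
    have hc : commutator A ≤ δ.ker := by
      rw [commutator_def, Subgroup.commutator_le]
      intro a _ b _
      rw [MonoidHom.mem_ker, map_commutatorElement, commutatorElement_eq_one_iff_mul_comm]
      exact hcomm a b
    intro c hc'
    have h4 : (commutator A).map A.subtype = ⁅A, A⁆ := Subgroup.map_subtype_commutator A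
    rw [← h4] at hc'
    obtain ⟨c, hc1, rfl⟩ := hc'
    have h5 := hc hc1
    rw [MonoidHom.mem_ker] at h5
    change QuotientGroup.mk' (D.subgroupOf A) _ = 1 at h5
    rw [QuotientGroup.mk'_apply, QuotientGroup.eq_one_iff, Subgroup.mem_subgroupOf] at h5
    exact h5
  -- `Y = [V, x]`
  let Y : Subgroup G :=
    { carrier := {y | ∃ v ∈ V, ⁅v, x⁆ = y}
      one_mem' := ⟨1, V.one_mem, by simp⟩
      mul_mem' := by
        rintro _ _ ⟨v, hv, rfl⟩ ⟨w, hw, rfl⟩
        exact ⟨v * w, V.mul_mem hv hw, delta_mul hab x hv hw⟩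
      inv_mem' := by
        rintro _ ⟨v, hv, rfl⟩
        refine ⟨v⁻¹, V.inv_mem hv, ?_⟩
        have h1 := delta_mul hab x hv (V.inv_mem hv)
        rw [mul_inv_cancel, commutatorElement_one_left] at h1
        exact (inv_eq_of_mul_eq_one_right h1.symm).symm }
  have hYV : Y ≤ V := by
    rintro _ ⟨v, hv, rfl⟩
    exact hx v (hVA hv)
  have hY1 : Y ≠ ⊥ := by
    intro h
    obtain ⟨v, hv, hne⟩ := hnt
    apply hne
    have h1 : ⁅v, x⁆ ∈ Y := ⟨v, hv, rfl⟩
    rw [h, Subgroup.mem_bot, commutatorElement_eq_one_iff_mul_comm] at h1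
    exact h1.symm
  -- conjugation by `a ∈ A` commutes with `δ` on `V`
  have hconj : ∀ v ∈ V, ∀ a ∈ A, a * ⁅v, x⁆ * a⁻¹ = ⁅a * v * a⁻¹, x⁆ := by
    intro v hv a ha
    have h1 : a * x * a⁻¹ = ⁅a, x⁆ * x := by rw [commutatorElement_def]; group
    have h2 : a * ⁅v, x⁆ * a⁻¹ = ⁅a * v * a⁻¹, a * x * a⁻¹⁆ := by
      rw [commutatorElement_def, commutatorElement_def]; group
    have hw : a * v * a⁻¹ ∈ V := hV.conj_mem v hv a
    set w := a * v * a⁻¹ with hw'
    rw [h2, h1]
    have h3 := hx a ha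
    set c := ⁅a, x⁆ with hc'
    have h4 : x * w⁻¹ * x⁻¹ ∈ V := hV.conj_mem _ (V.inv_mem hw) x
    rw [commutatorElement_def, commutatorElement_def]
    calc w * (c * x) * w⁻¹ * (c * x)⁻¹ = w * (c * (x * w⁻¹ * x⁻¹)) * c⁻¹ := by group
      _ = w * ((x * w⁻¹ * x⁻¹) * c) * c⁻¹ := by rw [hab _ h3 _ h4]
      _ = _ := by group
  have hAY : A ≤ Subgroup.normalizer (Y : Set G) := by
    have key : ∀ a ∈ A, ∀ y ∈ Y, a * y * a⁻¹ ∈ Y := by
      rintro a ha _ ⟨v, hv, rfl⟩
      exact ⟨a * v * a⁻¹, hV.conj_mem v hv a, (hconj v hv a ha).symm⟩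
    intro a ha
    rw [Subgroup.mem_normalizer_iff]
    intro y
    refine ⟨fun hy => key a ha y hy, fun hy => ?_⟩
    have h1 := key a⁻¹ (A.inv_mem ha) _ hy
    have h2 : a⁻¹ * (a * y * a⁻¹) * a⁻¹⁻¹ = y := by group
    rwa [h2] at h1
  have hlt := H940.commutator_lt Y A hA (hYV.trans hVA) hAY hY1
  -- `δ(D) ≤ [Y, A]`
  have hδD : ∀ d ∈ D, ⁅d, x⁆ ∈ ⁅Y, A⁆ := by
    let E : Subgroup G :=
      { carrier := {d | d ∈ V ∧ ⁅d, x⁆ ∈ ⁅Y, A⁆}
        one_mem' := ⟨V.one_mem, by simp⟩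
        mul_mem' := by
          rintro a b ⟨ha, ha'⟩ ⟨hb, hb'⟩
          refine ⟨V.mul_mem ha hb, ?_⟩
          rw [delta_mul hab x ha hb]
          exact Subgroup.mul_mem _ ha' hb'
        inv_mem' := by
          rintro v ⟨hv, hv'⟩
          refine ⟨V.inv_mem hv, ?_⟩
          have h1 := delta_mul hab x hv (V.inv_mem hv)
          rw [mul_inv_cancel, commutatorElement_one_left] at h1
          have h2 : ⁅v⁻¹, x⁆ = ⁅v, x⁆⁻¹ := (inv_eq_of_mul_eq_one_right h1.symm).symm
          rw [h2]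
          exact Subgroup.inv_mem _ hv' }
    have hDE : D ≤ E := by
      rw [hD, Subgroup.commutator_le]
      intro v hv a ha
      refine ⟨hDV (hmemD v hv a ha), ?_⟩
      have h0 : a * v⁻¹ * a⁻¹ ∈ V := hV.conj_mem _ (V.inv_mem hv) a
      have h1 : ⁅v, a⁆ = v * (a * v⁻¹ * a⁻¹) := by rw [commutatorElement_def]; group
      rw [h1, delta_mul hab x hv h0, ← hconj _ (V.inv_mem hv) a ha]
      have h2 := delta_mul hab x hv (V.inv_mem hv)
      rw [mul_inv_cancel, commutatorElement_one_left] at h2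
      have h3 : ⁅v⁻¹, x⁆ = ⁅v, x⁆⁻¹ := (inv_eq_of_mul_eq_one_right h2.symm).symm
      rw [h3]
      have h4 : ⁅v, x⁆ * (a * ⁅v, x⁆⁻¹ * a⁻¹) = ⁅⁅v, x⁆, a⁆ := by
        rw [commutatorElement_def ⁅v, x⁆ a]; group
      rw [h4]
      exact Subgroup.commutator_mem_commutator ⟨v, hv, rfl⟩ ha
    exact fun d hd => (hDE hd).2
  -- `δ` is injective on `Y`
  have hinj : ∀ y ∈ Y, ⁅y, x⁆ = 1 → y = 1 := by
    rintro _ ⟨v, hv, rfl⟩ h1
    set y := ⁅v, x⁆ with hy
    have hyV : y ∈ V := hx v (hVA hv)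
    rw [commutatorElement_eq_one_iff_mul_comm] at h1
    have h2 : ∀ k : ℕ, x ^ k * v * (x ^ k)⁻¹ = (y⁻¹) ^ k * v := by
      intro k
      induction k with
      | zero => simp
      | succ k ih =>
        have h3 : x * v * x⁻¹ = y⁻¹ * v := by rw [hy, commutatorElement_def]; group
        have h4 : x * y⁻¹ ^ k * x⁻¹ = y⁻¹ ^ k := by
          have h5 : Commute x (y⁻¹ ^ k) := ((show Commute y x from h1).symm.inv_right).pow_right k
          rw [h5.eq, mul_inv_cancel_right]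
        calc x ^ (k + 1) * v * (x ^ (k + 1))⁻¹ = x * (x ^ k * v * (x ^ k)⁻¹) * x⁻¹ := by
              rw [pow_succ']; group
          _ = (x * y⁻¹ ^ k * x⁻¹) * (x * v * x⁻¹) := by rw [ih]; group
          _ = y⁻¹ ^ (k + 1) * v := by rw [h4, h3, pow_succ]; group
    have h3 := h2 m
    rw [hxm v hv, mul_inv_cancel_right] at h3
    have h4 : y⁻¹ ^ m = 1 := by
      have := mul_right_cancel (b := v) (a := 1) (c := y⁻¹ ^ m) (by rw [one_mul]; exact h3)
      exact this.symm
    have h5 : y ^ m = 1 := by rw [inv_pow] at h4; exact inv_eq_one.1 h4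
    obtain ⟨k, hk⟩ := hA ⟨y, hVA hyV⟩
    have h6 : y ^ p ^ k = 1 := congrArg Subtype.val hk
    have h7 : orderOf y ∣ p ^ k := orderOf_dvd_of_pow_eq_one h6
    have h8 : orderOf y ∣ m := orderOf_dvd_of_pow_eq_one h5
    have h9 : Nat.Coprime (p ^ k) m :=
      Nat.Coprime.pow_left _ ((Nat.Prime.coprime_iff_not_dvd Fact.out).2 hm)
    have h10 := Nat.dvd_gcd h7 h8
    rw [h9] at h10
    exact orderOf_eq_one_iff.1 (Nat.dvd_one.1 h10)
  -- `Y ≤ D`
  have hYD : Y ≤ D := by
    rintro _ ⟨v, hv, rfl⟩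
    exact hker v (hle hv)
  -- hence `Y ≤ [Y, A]`
  have hYY : Y ≤ ⁅Y, A⁆ := by
    let δY : Y → Y := fun y => ⟨⁅(y : G), x⁆, (y : G), hYV y.2, rfl⟩
    have hδY : Function.Injective δY := by
      intro a b hab'
      have h1 : ⁅(a : G), x⁆ = ⁅(b : G), x⁆ := congrArg Subtype.val hab'
      have h2 : ⁅((a : G) * (b : G)⁻¹), x⁆ = 1 := by
        have hb' : ((b : G))⁻¹ ∈ V := V.inv_mem (hYV b.2)
        rw [delta_mul hab x (hYV a.2) hb', h1, ← delta_mul hab x (hYV b.2) hb', mul_inv_cancel,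
          commutatorElement_one_left]
      have h3 := hinj _ (Y.mul_mem a.2 (Y.inv_mem b.2)) h2
      exact Subtype.ext (mul_inv_eq_one.1 h3)
    have hsurj := Finite.injective_iff_surjective.1 hδY
    intro y hy
    obtain ⟨z, hz⟩ := hsurj ⟨y, hy⟩
    have h1 : ⁅(z : G), x⁆ = y := congrArg Subtype.val hz
    rw [← h1]
    exact hδD _ (hYD z.2)
  exact absurd hYY (not_le_of_gt hlt)

theorem normalizes_of_between {V Q W : Subgroup G} (h1 : ⁅V, Q⁆ ≤ W) (h2 : W ≤ V) :
    Q ≤ Subgroup.normalizer (W : Set G) :=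
  Subgroup.le_normalizer_iff_commutator_le_left.2 ((Subgroup.commutator_mono h2 le_rfl).trans h1)

theorem card_sup_le {D₁ D₂ V : Subgroup G} (hab : ∀ x ∈ V, ∀ y ∈ V, x * y = y * x) (h1 : D₁ ≤ V)
    (h2 : D₂ ≤ V) (h : D₁ ⊔ D₂ = V) : Nat.card V ≤ Nat.card D₁ * Nat.card D₂ := by
  have hn : D₁ ≤ Subgroup.normalizer (D₂ : Set G) := fun x hx =>
    H940.mem_normalizer_of_commute fun k hk => hab x (h1 hx) k (h2 hk)
  have hs : Function.Surjective (fun p : D₁ × D₂ => (⟨(p.1 : G) * (p.2 : G),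
      V.mul_mem (h1 p.1.2) (h2 p.2.2)⟩ : V)) := by
    rintro ⟨v, hv⟩
    rw [← h] at hv
    obtain ⟨a, ha, b, hb, rfl⟩ := H940.exists_mul_of_mem_sup hn hv
    exact ⟨(⟨a, ha⟩, ⟨b, hb⟩), rfl⟩
  have := Nat.card_le_card_of_surjective _ hs
  rwa [Nat.card_prod] at this

/-- The argument with two opposite subgroups. -/
theorem two_sides {p : ℕ} [Fact p.Prime] {V Q₁ Q₂ M : Subgroup G} [hVn : V.Normal]
    (hab : ∀ x ∈ V, ∀ y ∈ V, x * y = y * x) (hV1 : V ≠ ⊥)
    (hmin : ∀ J : Subgroup G, J.Normal → J ≤ V → J = ⊥ ∨ J = V)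
    (hQ1 : IsPGroup p Q₁) (hQ2 : IsPGroup p Q₂) (hVQ1 : V ≤ Q₁) (hVQ2 : V ≤ Q₂)
    (hM1 : M ≤ Subgroup.normalizer (Q₁ : Set G)) (hM2 : M ≤ Subgroup.normalizer (Q₂ : Set G))
    (hgen : Q₁ ⊔ Q₂ = ⊤) (hnt : ⁅V, Q₁⁆ ≠ ⊥) {B : ℕ}
    (hcount : ∀ D : Subgroup G, D ≤ V → M ≤ Subgroup.normalizer (D : Set G) → ¬ ⁅V, M⁆ ≤ D →
      B * Nat.card D ≤ Nat.card V) : ⁅V, M⁆ < V ∨ B * B ≤ Nat.card V := by
  have hVQ : ∀ Q : Subgroup G, Q ≤ Subgroup.normalizer (V : Set G) := fun Q x _ =>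
    Subgroup.normalizer_eq_top_iff.2 hVn ▸ Subgroup.mem_top x
  have h1 := H940.commutator_lt V Q₁ hQ1 hVQ1 (hVQ _) hV1
  have h2 := H940.commutator_lt V Q₂ hQ2 hVQ2 (hVQ _) hV1
  have hsup : ⁅V, Q₁⁆ ⊔ ⁅V, Q₂⁆ = V := by
    have hle : ⁅V, Q₁⁆ ⊔ ⁅V, Q₂⁆ ≤ V := sup_le h1.le h2.le
    have hn : (⁅V, Q₁⁆ ⊔ ⁅V, Q₂⁆ : Subgroup G).Normal := by
      rw [← Subgroup.normalizer_eq_top_iff, eq_top_iff, ← hgen]
      exact sup_le (normalizes_of_between le_sup_left hle) (normalizes_of_between le_sup_right hle)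
    rcases hmin _ hn hle with h | h
    · exfalso
      apply hnt
      rw [eq_bot_iff, ← h]
      exact le_sup_left
    · exact h
  have hcard := card_sup_le hab h1.le h2.le hsup
  have hn1 : M ≤ Subgroup.normalizer ((⁅V, Q₁⁆ : Subgroup G) : Set G) := fun m hm =>
    H940.mem_normalizer_commutator (hVQ ⊤ (Subgroup.mem_top m)) (hM1 hm)
  have hn2 : M ≤ Subgroup.normalizer ((⁅V, Q₂⁆ : Subgroup G) : Set G) := fun m hm =>
    H940.mem_normalizer_commutator (hVQ ⊤ (Subgroup.mem_top m)) (hM2 hm)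
  by_cases hM : ⁅V, M⁆ ≤ ⁅V, Q₁⁆
  · exact Or.inl (lt_of_le_of_lt hM h1)
  by_cases hM' : ⁅V, M⁆ ≤ ⁅V, Q₂⁆
  · exact Or.inl (lt_of_le_of_lt hM' h2)
  right
  have h3 := hcount _ h1.le hn1 hM
  have h4 := hcount _ h2.le hn2 hM'
  have hpos : 0 < Nat.card V := Nat.card_pos
  have h5 : (B * B) * Nat.card V ≤ Nat.card V * Nat.card V := by
    calc (B * B) * Nat.card V
        ≤ (B * B) * (Nat.card (⁅V, Q₁⁆ : Subgroup G) * Nat.card (⁅V, Q₂⁆ : Subgroup G)) :=
          Nat.mul_le_mul_left _ hcard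
      _ = (B * Nat.card (⁅V, Q₁⁆ : Subgroup G)) * (B * Nat.card (⁅V, Q₂⁆ : Subgroup G)) := by ring
      _ ≤ _ := Nat.mul_le_mul h3 h4
  exact Nat.le_of_mul_le_mul_right h5 hpos

end Cfsg.Agent.H78.CodC
end

-- part: H78/CodD
section
/-!
# Modules for `SL_m(q)` in the defining characteristic

`le_card` : if `SL_m(q)`, `m ≥ 4`, acts nontrivially on an elementary abelian `p`-group `W` (`q` a power of `p`)
then `q ^ m ≤ |W|`.
-/

set_option autoImplicit false

namespace Cfsg.Agent.H78.CodD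

open Cfsg Matrix Cfsg.Agent.Lib.Zsigmondy Cfsg.Agent.SignalizersComponents

universe u v

/-- the order of `MulAut W` -/
theorem card_mulAut {W : Type v} [Group W] {r : ℕ} [hr : Fact r.Prime]
    (hc : ∀ a b : W, a * b = b * a) (hpow : ∀ a : W, a ^ r = 1) {k : ℕ}
    (hk : Nat.card W = r ^ k) : Nat.card (MulAut W) = ∏ i : Fin k, (r ^ k - r ^ (i : ℕ)) := by
  let _ : CommGroup W := { (inferInstance : Group W) with mul_comm := hc }
  obtain ⟨e⟩ := Lib.ElemAbGL.mulAut_equiv_GL (V := W) r k hpow hk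
  rw [Nat.card_congr e.toEquiv, Matrix.card_GL_field, ZMod.card]

theorem exists_card {W : Type v} [Group W] [Finite W] {r : ℕ} [hr : Fact r.Prime]
    (hpow : ∀ a : W, a ^ r = 1) : ∃ k, Nat.card W = r ^ k := by
  have h : IsPGroup r W := fun w => ⟨1, by rw [pow_one]; exact hpow w⟩
  exact IsPGroup.iff_card.1 h

variable {F : Type u} [Field F] [Fintype F]

/-- a central element of `SL_m(q)` of order prime to `q - 1` is trivial -/
theorem eq_one_of_center {m ℓ : ℕ} (hm : 0 < m) (hℓ : ℓ.Prime) (hℓq : ¬ ℓ ∣ Fintype.card F - 1)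
    {y : _root_.Matrix.SpecialLinearGroup (Fin m) F} (hy : y ∈ Subgroup.center (_root_.Matrix.SpecialLinearGroup (Fin m) F))
    (hyl : orderOf y = ℓ) : False := by
  obtain ⟨c, -, hc⟩ := Matrix.SpecialLinearGroup.mem_center_iff.1 hy
  have : Nonempty (Fin m) := ⟨⟨0, hm⟩⟩
  have hyp : y ^ ℓ = 1 := by rw [← hyl]; exact pow_orderOf_eq_one y
  have h1 : c ^ ℓ = 1 := by
    have h2 : (Matrix.scalar (Fin m)) (c ^ ℓ) = (Matrix.scalar (Fin m)) 1 := by
      rw [map_pow, hc, map_one, ← Matrix.SpecialLinearGroup.coe_pow, hyp]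
      rfl
    exact Matrix.scalar_inj.1 h2
  have hc0 : c ≠ 0 := by
    rintro rfl
    rw [zero_pow hℓ.ne_zero] at h1
    exact zero_ne_one h1
  have h2 : c ^ (Fintype.card F - 1) = 1 := FiniteField.pow_card_sub_one_eq_one c hc0
  have h3 : orderOf c ∣ Nat.gcd ℓ (Fintype.card F - 1) :=
    Nat.dvd_gcd (orderOf_dvd_of_pow_eq_one h1) (orderOf_dvd_of_pow_eq_one h2)
  have h4 : Nat.gcd ℓ (Fintype.card F - 1) = 1 := (Nat.Prime.coprime_iff_not_dvd hℓ).2 hℓq
  rw [h4, Nat.dvd_one, orderOf_eq_one_iff] at h3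
  have h5 : y = 1 := by
    apply Subtype.ext
    rw [← hc, h3, map_one]
    rfl
  rw [h5, orderOf_one] at hyl
  exact hℓ.one_lt.ne hyl

/-- the order of `SL_6(2)` is large -/
theorem card_six (hF : Fintype.card F = 2) : 2 ^ 26 < Nat.card (_root_.Matrix.SpecialLinearGroup (Fin 6) F) := by
  have h := S0242.result (F := F) hF 6 (by norm_num)
  rw [Fin.prod_univ_six] at h
  norm_num only [_root_.one_mul, _root_.Fin.coe_ofNat_eq_mod, _root_.pow_zero, _root_.Nat.add_one_sub_one, _root_.pow_one] at h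
  rw [h]
  norm_num

theorem le_card {p f m : ℕ} [hp : Fact p.Prime] (hF : Fintype.card F = p ^ f) (hm : 4 ≤ m)
    {W : Type v} [Group W] [Finite W] (hc : ∀ a b : W, a * b = b * a) (hpow : ∀ a : W, a ^ p = 1)
    (a : _root_.Matrix.SpecialLinearGroup (Fin m) F →* MulAut W) (ha : a.ker ≠ ⊤) : (p ^ f) ^ m ≤ Nat.card W := by
  classical
  have hf : f ≠ 0 := by
    rintro rfl
    have := Fintype.one_lt_card (α := F)
    rw [hF] at this
    simp at this
  have hq := Components.quasisimple_normal (SLQuasisimple.isQuasisimple_of_three_le (F := F) (ι := Fin m)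
    (by rw [Fintype.card_fin]; omega)) a.ker inferInstance
  have hker : a.ker ≤ Subgroup.center (_root_.Matrix.SpecialLinearGroup (Fin m) F) := hq.resolve_left ha
  obtain ⟨k, hk⟩ := exists_card (W := W) hpow
  have hA := card_mulAut hc hpow hk
  rw [hk, ← pow_mul]
  apply Nat.pow_le_pow_right hp.out.pos
  by_cases h6 : p = 2 ∧ f * m = 6
  · -- `SL_6(2)`
    obtain ⟨rfl, h6⟩ := h6
    have hf1 : f = 1 := by
      by_contra h
      have h2 : 2 ≤ f := by omega
      have : 2 * 4 ≤ f * m := Nat.mul_le_mul h2 hm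
      omega
    subst hf1
    rw [one_mul] at h6
    subst h6
    by_contra hlt
    have hk5 : k ≤ 5 := by omega
    have hF2 : Fintype.card F = 2 := by rw [hF]; norm_num
    have hinj : Function.Injective a := by
      rw [← MonoidHom.ker_eq_bot_iff, eq_bot_iff]
      refine hker.trans ?_
      intro y hy
      obtain ⟨c, hc1, hc2⟩ := Matrix.SpecialLinearGroup.mem_center_iff.1 hy
      have hc0 : c ≠ 0 := by
        rintro rfl
        rw [Fintype.card_fin, zero_pow (by norm_num)] at hc1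
        exact zero_ne_one hc1
      have h2 : c ^ (Fintype.card F - 1) = 1 := FiniteField.pow_card_sub_one_eq_one c hc0
      rw [hF2, pow_one] at h2
      rw [Subgroup.mem_bot]
      apply Subtype.ext
      rw [← hc2, h2, map_one]
      rfl
    have hfin : Finite (MulAut W) := inferInstance
    have h1 := Nat.card_le_card_of_injective a hinj
    have h2 := card_six hF2
    have h3 : ∏ i : Fin k, (2 ^ k - 2 ^ (i : ℕ)) ≤ 2 ^ 25 := by
      calc ∏ i : Fin k, (2 ^ k - 2 ^ (i : ℕ)) ≤ ∏ i : Fin k, 2 ^ k :=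
            Finset.prod_le_prod' fun i _ => Nat.sub_le _ _
        _ = (2 ^ k) ^ k := by rw [Finset.prod_const, Finset.card_univ, Fintype.card_fin]
        _ ≤ 2 ^ 25 := by
            rw [← pow_mul]
            exact Nat.pow_le_pow_right (by norm_num) (by nlinarith only [hlt])
    rw [hA] at h1
    have h4 : (2 : ℕ) ^ 25 ≤ 2 ^ 26 := Nat.pow_le_pow_right (by norm_num) (by norm_num)
    omega
  · have hfm : 4 ≤ f * m := by nlinarith only [hm, Nat.pos_of_ne_zero hf]
    obtain ⟨ℓ, hℓ, hord⟩ := exists_prime_orderOf (a := p) (n := f * m) hp.out.two_le (by omega)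
      (by omega) h6
    have hℓp : ℓ ≠ p := by
      rintro rfl
      rw [ZMod.natCast_self, orderOf_eq_zero_iff.2] at hord
      · omega
      · rw [isOfFinOrder_iff_pow_eq_one]
        rintro ⟨n, hn, h1⟩
        have : Fact ℓ.Prime := hp
        rw [zero_pow (by omega)] at h1
        exact zero_ne_one h1
    have hp1 : 1 ≤ p := hp.out.pos
    have hℓm : ℓ ∣ Fintype.card F ^ m - 1 := by
      rw [hF, ← pow_mul, dvd_pow_sub_one_iff hp1, hord]
    have hℓq : ¬ ℓ ∣ Fintype.card F - 1 := by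
      rw [hF, dvd_pow_sub_one_iff hp1, hord]
      intro h
      have := Nat.le_of_dvd (Nat.pos_of_ne_zero hf) h
      nlinarith only [hm, hfm, this]
    obtain ⟨y, hy⟩ := GpLn.Elem.exists_order (F := F) hℓ (by omega : 0 < m) hℓm hℓq
    have hyk : a y ≠ 1 := fun h => eq_one_of_center (by omega) hℓ hℓq (hker h) hy
    have hoy : orderOf (a y) = ℓ := by
      have : Fact ℓ.Prime := ⟨hℓ⟩
      refine orderOf_eq_prime ?_ hyk
      rw [← map_pow, ← hy, pow_orderOf_eq_one, map_one]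
    have h1 : ℓ ∣ Nat.card (MulAut W) := hoy ▸ orderOf_dvd_natCard (a y)
    rw [hA, (Nat.Prime.prime hℓ).dvd_finset_prod_iff] at h1
    obtain ⟨i, -, hi⟩ := h1
    have hik : (i : ℕ) < k := i.2
    have h2 : p ^ k - p ^ (i : ℕ) = p ^ (i : ℕ) * (p ^ (k - i) - 1) := by
      rw [Nat.mul_sub, mul_one, ← pow_add, Nat.add_sub_cancel' hik.le]
    rw [h2, hℓ.dvd_mul] at hi
    rcases hi with hi | hi
    · exact absurd ((Nat.prime_dvd_prime_iff_eq hℓ hp.out).1 (hℓ.dvd_of_dvd_pow hi)) hℓp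
    · rw [dvd_pow_sub_one_iff hp1, hord] at hi
      have := Nat.le_of_dvd (by omega) hi
      omega

end Cfsg.Agent.H78.CodD
end

-- part: H78/CodE
section
/-!
# The subgroup `M` with `M / V = SL_m(q)`

* `not_le_of_trivial` : if `M/V` is perfect with trivial Schur multiplier and `[V, M] < V` then `V` is not contained
  in the derived subgroup of `M`;
* `count` : if `M/V = SL_m(q)` acts nontrivially on `V/D` then `q ^ m |D| ≤ |V|`.
-/

set_option autoImplicit false
set_option linter.unusedSectionVars false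

namespace Cfsg.Agent.H78.CodE

open Cfsg Matrix
open scoped commutatorElement

universe u v

variable {G : Type u} [Group G] [Finite G]

theorem not_le_of_trivial {V M : Subgroup G} [hV : V.Normal] {P : Type v} [Group P] [Finite P]
    (hP : Group.IsPerfect P) (hM : Cfsg.HasCyclicSchurMultiplier P 1) (π : M →* P)
    (hπ : Function.Surjective π) (hVM : V ≤ M) (hker : ∀ g : M, π g = 1 ↔ (g : G) ∈ V)
    (h : ⁅V, M⁆ < V) : ¬ V ≤ ⁅M, M⁆ := by
  intro hle
  set D : Subgroup G := ⁅V, M⁆ with hD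
  have hMD : M ≤ Subgroup.normalizer (D : Set G) := fun m hm =>
    H940.mem_normalizer_commutator (Subgroup.normalizer_eq_top_iff.2 hV ▸ Subgroup.mem_top m)
      (Subgroup.le_normalizer hm)
  have hDn : (D.subgroupOf M).Normal := by
    refine ⟨fun d hd a => ?_⟩
    rw [Subgroup.mem_subgroupOf] at hd ⊢
    exact (Subgroup.mem_normalizer_iff.1 (hMD a.2) d).1 hd
  let ξ : M ⧸ D.subgroupOf M →* P := QuotientGroup.lift (D.subgroupOf M) π (by
    intro x hx
    rw [Subgroup.mem_subgroupOf] at hx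
    exact (hker x).2 (h.le hx))
  have hξ : ∀ g : M, ξ (QuotientGroup.mk' (D.subgroupOf M) g) = π g := fun g => rfl
  have hξs : Function.Surjective ξ := by
    intro y
    obtain ⟨g, rfl⟩ := hπ y
    exact ⟨_, hξ g⟩
  have hξc : ξ.ker ≤ Subgroup.center (M ⧸ D.subgroupOf M) := by
    intro x hx
    obtain ⟨g, rfl⟩ := QuotientGroup.mk'_surjective _ x
    rw [MonoidHom.mem_ker, hξ, hker] at hx
    rw [Subgroup.mem_center_iff]
    intro y
    obtain ⟨k, rfl⟩ := QuotientGroup.mk'_surjective _ y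
    rw [← map_mul, ← map_mul, QuotientGroup.mk'_apply, QuotientGroup.mk'_apply, QuotientGroup.eq,
      Subgroup.mem_subgroupOf]
    have h1 : ⁅((g : G))⁻¹, ((k : G))⁻¹⁆ ∈ D :=
      Subgroup.commutator_mem_commutator (V.inv_mem hx) (M.inv_mem k.2)
    rw [commutatorElement_def] at h1
    simpa only [mul_assoc, _root_.mul_inv_rev, _root_.Subgroup.coe_mul, _root_.InvMemClass.coe_inv, _root_.inv_inv] using h1
  obtain ⟨η, hη⟩ := H487.exists_lift_of_trivial hP hM (MonoidHom.id P) hξs hξc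
  have hcomm : commutator (M ⧸ D.subgroupOf M) ≤ η.range := by
    rw [commutator_def, Subgroup.commutator_le]
    have key : ∀ e : M ⧸ D.subgroupOf M, ∃ z ∈ Subgroup.center (M ⧸ D.subgroupOf M), e = z * η (ξ e) := by
      intro e
      refine ⟨e * (η (ξ e))⁻¹, hξc ?_, by rw [inv_mul_cancel_right]⟩
      rw [MonoidHom.mem_ker, map_mul, map_inv]
      have h1 : ξ (η (ξ e)) = ξ e := DFunLike.congr_fun hη (ξ e)
      rw [h1, mul_inv_cancel]
    intro a _ b _
    obtain ⟨z, hz, ha⟩ := key a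
    obtain ⟨w, hw, hb⟩ := key b
    have h1 : ⁅a, b⁆ = ⁅η (ξ a), η (ξ b)⁆ := by
      set a' := η (ξ a)
      set b' := η (ξ b)
      rw [ha, hb, commutatorElement_def, commutatorElement_def]
      have hz' := Subgroup.mem_center_iff.1 hz
      have hw' := Subgroup.mem_center_iff.1 hw
      calc z * a' * (w * b') * (z * a')⁻¹ * (w * b')⁻¹
          = z * (a' * w) * b' * a'⁻¹ * z⁻¹ * b'⁻¹ * w⁻¹ := by group
        _ = z * (w * a') * b' * a'⁻¹ * z⁻¹ * b'⁻¹ * w⁻¹ := by rw [hw' a']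
        _ = z * (w * (a' * b' * a'⁻¹)) * z⁻¹ * b'⁻¹ * w⁻¹ := by group
        _ = (w * (a' * b' * a'⁻¹)) * z * z⁻¹ * b'⁻¹ * w⁻¹ := by rw [hz' (w * (a' * b' * a'⁻¹))]
        _ = w * (a' * b' * a'⁻¹ * b'⁻¹) * w⁻¹ := by group
        _ = (a' * b' * a'⁻¹ * b'⁻¹) * w * w⁻¹ := by rw [hw' (a' * b' * a'⁻¹ * b'⁻¹)]
        _ = _ := by group
    rw [h1, ← map_commutatorElement]
    exact ⟨_, rfl⟩
  obtain ⟨v, hv, hvD⟩ := SetLike.exists_of_lt h
  have h4 : (commutator M).map M.subtype = ⁅M, M⁆ := Subgroup.map_subtype_commutator M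
  have h5 := hle hv
  rw [← h4] at h5
  obtain ⟨w, hw, hwv⟩ := h5
  have h6 : QuotientGroup.mk' (D.subgroupOf M) w ∈ commutator (M ⧸ D.subgroupOf M) := by
    have h7 : (commutator M).map (QuotientGroup.mk' (D.subgroupOf M)) ≤ commutator (M ⧸ D.subgroupOf M) := by
      rw [commutator_def, Subgroup.map_commutator, commutator_def]
      exact Subgroup.commutator_mono le_top le_top
    exact h7 ⟨w, hw, rfl⟩
  obtain ⟨x, hx⟩ := hcomm h6
  have h7 : ξ (η x) = x := DFunLike.congr_fun hη x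
  have hwv' : (w : G) = v := hwv
  have h8 : π w = 1 := (hker w).2 (by rw [hwv']; exact hv)
  rw [hx, hξ, h8] at h7
  rw [← h7, map_one] at hx
  have h9 : w ∈ D.subgroupOf M := (QuotientGroup.eq_one_iff w).1 hx.symm
  rw [Subgroup.mem_subgroupOf, hwv'] at h9
  exact hvD h9

/-- the action of a subgroup on a section -/
theorem exists_act {V D M : Subgroup G} [hV : V.Normal] (hab : ∀ x ∈ V, ∀ y ∈ V, x * y = y * x)
    (hDV : D ≤ V) (hMD : M ≤ Subgroup.normalizer (D : Set G)) [hDn : (D.subgroupOf V).Normal] :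
    ∃ α : M →* MulAut (V ⧸ D.subgroupOf V), ∀ g : M, ∀ v : V,
      α g (QuotientGroup.mk' (D.subgroupOf V) v) =
        QuotientGroup.mk' (D.subgroupOf V) (MulAut.conjNormal (g : G) v) := by
  have hmap : ∀ g : M, (D.subgroupOf V).map ((MulAut.conjNormal (g : G) : MulAut V) : V →* V) = D.subgroupOf V := by
    intro g
    ext v
    rw [Subgroup.mem_map, Subgroup.mem_subgroupOf]
    constructor
    · rintro ⟨w, hw, rfl⟩
      rw [Subgroup.mem_subgroupOf] at hw
      change ((MulAut.conjNormal (g : G) w : V) : G) ∈ D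
      rw [MulAut.conjNormal_apply]
      exact (Subgroup.mem_normalizer_iff.1 (hMD g.2) _).1 hw
    · intro hv
      refine ⟨MulAut.conjNormal ((g : G)⁻¹) v, ?_, ?_⟩
      · rw [Subgroup.mem_subgroupOf, MulAut.conjNormal_apply, inv_inv]
        have h1 : (g : G) * ((g : G)⁻¹ * v * g) * (g : G)⁻¹ ∈ D := by
          have : (g : G) * ((g : G)⁻¹ * v * g) * (g : G)⁻¹ = v := by group
          rwa [this]
        exact (Subgroup.mem_normalizer_iff.1 (hMD g.2) _).2 h1
      · apply Subtype.ext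
        change ((MulAut.conjNormal (g : G) (MulAut.conjNormal ((g : G)⁻¹) v) : V) : G) = v
        rw [MulAut.conjNormal_apply, MulAut.conjNormal_apply]
        group
  refine ⟨MonoidHom.mk' (fun g => QuotientGroup.congr (D.subgroupOf V) (D.subgroupOf V)
    (MulAut.conjNormal (g : G)) (hmap g)) ?_, fun g v => rfl⟩
  intro a b
  ext x
  obtain ⟨v, rfl⟩ := QuotientGroup.mk'_surjective _ x
  change QuotientGroup.mk' (D.subgroupOf V) (MulAut.conjNormal ((a * b : M) : G) v) =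
    QuotientGroup.mk' (D.subgroupOf V) (MulAut.conjNormal (a : G) (MulAut.conjNormal (b : G) v))
  rw [Subgroup.coe_mul, map_mul, MulAut.mul_apply]

variable {F : Type v} [Field F] [Fintype F]

theorem count {p f m : ℕ} [hp : Fact p.Prime] (hF : Fintype.card F = p ^ f) (hm : 4 ≤ m)
    {V M : Subgroup G} [hV : V.Normal] (hab : ∀ x ∈ V, ∀ y ∈ V, x * y = y * x)
    (hexp : ∀ x ∈ V, x ^ p = 1) (π : M →* _root_.Matrix.SpecialLinearGroup (Fin m) F)
    (hπ : Function.Surjective π) (hker : ∀ g : M, π g = 1 → (g : G) ∈ V)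
    (D : Subgroup G) (hDV : D ≤ V) (hMD : M ≤ Subgroup.normalizer (D : Set G)) (hnt : ¬ ⁅V, M⁆ ≤ D) :
    (p ^ f) ^ m * Nat.card D ≤ Nat.card V := by
  have hDn : (D.subgroupOf V).Normal := by
    refine ⟨fun d hd a => ?_⟩
    rw [Subgroup.mem_subgroupOf] at hd ⊢
    have h1 : ((a * d * a⁻¹ : V) : G) = d := by
      rw [Subgroup.coe_mul, Subgroup.coe_mul, hab _ a.2 _ d.2, Subgroup.coe_inv, mul_inv_cancel_right]
    rwa [h1]
  obtain ⟨α, hα⟩ := exists_act (M := M) hab hDV hMD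
  have hle : π.ker ≤ α.ker := by
    intro g hg
    rw [MonoidHom.mem_ker] at hg ⊢
    ext x
    obtain ⟨v, rfl⟩ := QuotientGroup.mk'_surjective _ x
    rw [hα, MulAut.one_apply]
    congr 1
    apply Subtype.ext
    rw [MulAut.conjNormal_apply, hab _ (hker g hg) _ v.2, mul_inv_cancel_right]
  let a : _root_.Matrix.SpecialLinearGroup (Fin m) F →* MulAut (V ⧸ D.subgroupOf V) :=
    MonoidHom.liftOfSurjective π hπ ⟨α, hle⟩
  have ha : ∀ g : M, a (π g) = α g := fun g =>
    MonoidHom.liftOfRightInverse_comp_apply _ _ _ ⟨α, hle⟩ g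
  have hne : a.ker ≠ ⊤ := by
    intro h
    apply hnt
    rw [Subgroup.commutator_le]
    intro v hv g hg
    have h1 : α ⟨g, hg⟩ = 1 := by
      rw [← ha]
      have : π ⟨g, hg⟩ ∈ a.ker := by rw [h]; trivial
      exact this
    have h2 := hα ⟨g, hg⟩ ⟨v, hv⟩⁻¹
    rw [h1, MulAut.one_apply, QuotientGroup.mk'_apply, QuotientGroup.mk'_apply, QuotientGroup.eq,
      Subgroup.mem_subgroupOf] at h2
    have h3 : (((⟨v, hv⟩⁻¹ : V)⁻¹ * (MulAut.conjNormal g (⟨v, hv⟩⁻¹ : V) : V) : V) : G) = ⁅v, g⁆ := by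
      rw [Subgroup.coe_mul, MulAut.conjNormal_apply, inv_inv, commutatorElement_def]
      simp only [mul_assoc, _root_.InvMemClass.coe_inv]
    rwa [h3] at h2
  have hW := CodD.le_card hF hm (W := V ⧸ D.subgroupOf V) (by
      intro x y
      obtain ⟨v, rfl⟩ := QuotientGroup.mk'_surjective _ x
      obtain ⟨w, rfl⟩ := QuotientGroup.mk'_surjective _ y
      rw [← map_mul, ← map_mul]
      congr 1
      exact Subtype.ext (hab _ v.2 _ w.2)) (by
      intro x
      obtain ⟨v, rfl⟩ := QuotientGroup.mk'_surjective _ x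
      rw [← map_pow]
      have h1 : v ^ p = 1 := Subtype.ext (hexp _ v.2)
      rw [h1, map_one]) a hne
  have h1 := Subgroup.card_eq_card_quotient_mul_card_subgroup (D.subgroupOf V)
  rw [Nat.card_congr (Subgroup.subgroupOfEquivOfLe hDV).toEquiv] at h1
  rw [h1]
  exact Nat.mul_le_mul_right _ hW

end Cfsg.Agent.H78.CodE
end

-- part: H78/CodF
section
/-!
# Opposite unipotent subgroups of `SL_{m+1}(q)` normalized by `SL_m(q)`, and the order of `SL_n(q)`
-/

set_option autoImplicit false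

namespace Cfsg.Agent.H78.CodF

open Cfsg Matrix Cfsg.Agent.GpLn.Block
open scoped commutatorElement

universe u v

section

variable {F : Type v} [Field F] {m : ℕ}

/-- the upper unipotent subgroup -/
def up : Multiplicative (Matrix (Fin 1) (Fin m) F) →* _root_.Matrix.SpecialLinearGroup (Fin 1 ⊕ Fin m) F where
  toFun u := ⟨fromBlocks 1 u.toAdd 0 1, by rw [det_fromBlocks_zero₂₁]; simp⟩
  map_one' := by
    apply Subtype.ext
    change fromBlocks 1 0 0 1 = (1 : Matrix (Fin 1 ⊕ Fin m) (Fin 1 ⊕ Fin m) F)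
    exact fromBlocks_one
  map_mul' a b := by
    apply Subtype.ext
    change fromBlocks 1 (a * b).toAdd 0 1 = fromBlocks 1 a.toAdd 0 1 * fromBlocks 1 b.toAdd 0 1
    rw [fromBlocks_multiply]
    simp [add_comm]

/-- the lower unipotent subgroup -/
def dn : Multiplicative (Matrix (Fin m) (Fin 1) F) →* _root_.Matrix.SpecialLinearGroup (Fin 1 ⊕ Fin m) F where
  toFun u := ⟨fromBlocks 1 0 u.toAdd 1, by rw [det_fromBlocks_zero₁₂]; simp⟩
  map_one' := by
    apply Subtype.ext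
    change fromBlocks 1 0 0 1 = (1 : Matrix (Fin 1 ⊕ Fin m) (Fin 1 ⊕ Fin m) F)
    exact fromBlocks_one
  map_mul' a b := by
    apply Subtype.ext
    change fromBlocks 1 0 (a * b).toAdd 1 = fromBlocks 1 0 a.toAdd 1 * fromBlocks 1 0 b.toAdd 1
    rw [fromBlocks_multiply]
    simp [add_comm]

theorem coe_up (u : Multiplicative (Matrix (Fin 1) (Fin m) F)) :
    ((up u : _root_.Matrix.SpecialLinearGroup (Fin 1 ⊕ Fin m) F) : Matrix (Fin 1 ⊕ Fin m) (Fin 1 ⊕ Fin m) F) =
      fromBlocks 1 u.toAdd 0 1 := rfl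

theorem coe_dn (u : Multiplicative (Matrix (Fin m) (Fin 1) F)) :
    ((dn u : _root_.Matrix.SpecialLinearGroup (Fin 1 ⊕ Fin m) F) : Matrix (Fin 1 ⊕ Fin m) (Fin 1 ⊕ Fin m) F) =
      fromBlocks 1 0 u.toAdd 1 := rfl

theorem low_up (D : _root_.Matrix.SpecialLinearGroup (Fin m) F) (u : Multiplicative (Matrix (Fin 1) (Fin m) F)) :
    low (Fin 1) D * up u = up (Multiplicative.ofAdd (u.toAdd * ((D⁻¹ : _root_.Matrix.SpecialLinearGroup (Fin m) F) :
      Matrix (Fin m) (Fin m) F))) * low (Fin 1) D := by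
  refine ext' ?_
  rw [Matrix.SpecialLinearGroup.coe_mul, Matrix.SpecialLinearGroup.coe_mul, coe_low, coe_up, coe_up,
    fromBlocks_multiply, fromBlocks_multiply]
  have h : ((D⁻¹ : _root_.Matrix.SpecialLinearGroup (Fin m) F) : Matrix (Fin m) (Fin m) F) * (D : Matrix (Fin m) (Fin m) F) = 1 :=
    congrArg Subtype.val (inv_mul_cancel D)
  have h2 : u.toAdd * ((D⁻¹ : _root_.Matrix.SpecialLinearGroup (Fin m) F) : Matrix (Fin m) (Fin m) F) *
      (D : Matrix (Fin m) (Fin m) F) = u.toAdd := by rw [Matrix.mul_assoc, h, Matrix.mul_one]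
  simp only [toAdd_ofAdd, Matrix.one_mul, Matrix.mul_zero, Matrix.zero_mul, add_zero, zero_add, Matrix.mul_one, h2]

theorem low_dn (D : _root_.Matrix.SpecialLinearGroup (Fin m) F) (u : Multiplicative (Matrix (Fin m) (Fin 1) F)) :
    low (Fin 1) D * dn u = dn (Multiplicative.ofAdd ((D : Matrix (Fin m) (Fin m) F) * u.toAdd)) * low (Fin 1) D := by
  refine ext' ?_
  rw [Matrix.SpecialLinearGroup.coe_mul, Matrix.SpecialLinearGroup.coe_mul, coe_low, coe_dn, coe_dn,
    fromBlocks_multiply, fromBlocks_multiply]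
  simp only [_root_.mul_one, _root_.Matrix.zero_mul, _root_.add_zero, _root_.Matrix.mul_zero, _root_.Matrix.mul_one, _root_.zero_add, _root_.toAdd_ofAdd, _root_.one_mul]

theorem transvection_up (c : F) (j : Fin m) (h : (Sum.inl 0 : Fin 1 ⊕ Fin m) ≠ Sum.inr j) :
    SpecialLinearGroup.transvection h c =
      up (Multiplicative.ofAdd (Matrix.single (0 : Fin 1) j c)) := by
  apply Subtype.ext
  rw [coe_up]
  change Matrix.transvection (Sum.inl 0) (Sum.inr j) c = _
  rw [Matrix.transvection]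
  ext a b
  rcases a with a | a <;> rcases b with b | b <;>
    simp [Matrix.single, Matrix.one_apply, Matrix.of_apply]

theorem transvection_dn (c : F) (j : Fin m) (h : (Sum.inr j : Fin 1 ⊕ Fin m) ≠ Sum.inl 0) :
    SpecialLinearGroup.transvection h c =
      dn (Multiplicative.ofAdd (Matrix.single j (0 : Fin 1) c)) := by
  apply Subtype.ext
  rw [coe_dn]
  change Matrix.transvection (Sum.inr j) (Sum.inl 0) c = _
  rw [Matrix.transvection]
  ext a b
  rcases a with a | a <;> rcases b with b | b <;>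
    simp [Matrix.single, Matrix.one_apply, Matrix.of_apply]

/-- the two opposite unipotent subgroups generate `SL` -/
theorem sup_eq_top : (up (F := F) (m := m)).range ⊔ (dn (F := F) (m := m)).range = ⊤ := by
  rw [eq_top_iff, ← LieClassical.SLGen.closure_transvections, Subgroup.closure_le]
  rintro _ ⟨i, j, h, c, rfl⟩
  have hup : ∀ (c : F) (j : Fin m) (h : (Sum.inl 0 : Fin 1 ⊕ Fin m) ≠ Sum.inr j),
      SpecialLinearGroup.transvection h c ∈
        ((up (F := F) (m := m)).range ⊔ (dn (F := F) (m := m)).range : Subgroup _) := by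
    intro c j h
    rw [transvection_up]
    exact Subgroup.mem_sup_left ⟨_, rfl⟩
  have hdn : ∀ (c : F) (j : Fin m) (h : (Sum.inr j : Fin 1 ⊕ Fin m) ≠ Sum.inl 0),
      SpecialLinearGroup.transvection h c ∈
        ((up (F := F) (m := m)).range ⊔ (dn (F := F) (m := m)).range : Subgroup _) := by
    intro c j h
    rw [transvection_dn]
    exact Subgroup.mem_sup_right ⟨_, rfl⟩
  rcases i with i | i <;> rcases j with j | j
  · exact absurd (congrArg Sum.inl (Subsingleton.elim i j)) h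
  · obtain rfl := Subsingleton.elim i 0
    exact hup c j h
  · obtain rfl := Subsingleton.elim j 0
    exact hdn c i h
  · have h1 : (Sum.inr i : Fin 1 ⊕ Fin m) ≠ Sum.inl 0 := by simp
    have h2 : (Sum.inl 0 : Fin 1 ⊕ Fin m) ≠ Sum.inr j := by simp
    have h3 := LieClassical.SLGen.commutator_transvection (F := F) h h1 h2 c 1
    rw [mul_one] at h3
    rw [← h3, commutatorElement_def]
    exact Subgroup.mul_mem _ (Subgroup.mul_mem _ (Subgroup.mul_mem _ (hdn c i h1) (hup 1 j h2))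
      (Subgroup.inv_mem _ (hdn c i h1))) (Subgroup.inv_mem _ (hup 1 j h2))

/-- the unipotent subgroups are `p`-groups -/
theorem isPGroup_mul {p : ℕ} [CharP F p] {a b : Type} [Fintype a] [Fintype b] :
    IsPGroup p (Multiplicative (Matrix a b F)) := by
  intro u
  refine ⟨1, ?_⟩
  rw [pow_one]
  change Multiplicative.ofAdd (p • u.toAdd) = 1
  have h : p • u.toAdd = 0 := by
    ext i j
    simp
  rw [h]
  rfl

/-- a nontrivial upper unipotent element is not central -/
theorem up_center {u : Multiplicative (Matrix (Fin 1) (Fin m) F)}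
    (h : up u ∈ Subgroup.center (_root_.Matrix.SpecialLinearGroup (Fin 1 ⊕ Fin m) F)) : u = 1 := by
  obtain ⟨c, -, hc⟩ := Matrix.SpecialLinearGroup.mem_center_iff.1 h
  rw [coe_up] at hc
  change u.toAdd = 0
  ext i j
  have h2 := congrFun (congrFun hc (Sum.inl i)) (Sum.inr j)
  simpa using h2.symm

end

section card

variable {F : Type v} [Field F] [Fintype F]

theorem prod_gl {q : ℕ} (n : ℕ) :
    ∏ i : Fin n, (q ^ n - q ^ (i : ℕ)) = q ^ (n * (n - 1) / 2) * ∏ i ∈ Finset.range n, (q ^ (i + 1) - 1) := by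
  rw [Fin.prod_univ_eq_prod_range (fun i => q ^ n - q ^ i) n]
  have h1 : ∀ i ∈ Finset.range n, q ^ n - q ^ i = q ^ i * (q ^ (n - i) - 1) := by
    intro i hi
    rw [Finset.mem_range] at hi
    rw [Nat.mul_sub, mul_one, ← pow_add, Nat.add_sub_cancel' hi.le]
  rw [Finset.prod_congr rfl h1, Finset.prod_mul_distrib, Finset.prod_pow_eq_pow_sum, Finset.sum_range_id]
  congr 1
  rw [← Finset.prod_range_reflect]
  apply Finset.prod_congr rfl
  intro i hi
  rw [Finset.mem_range] at hi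
  congr 2
  omega

theorem not_dvd_pow_sub {p f k : ℕ} (hp : p.Prime) (hf : f ≠ 0) (hk : k ≠ 0) : ¬ p ∣ (p ^ f) ^ k - 1 := by
  intro h
  have h1 : p ∣ (p ^ f) ^ k := by rw [← pow_mul]; exact dvd_pow_self p (Nat.mul_ne_zero hf hk)
  have h2 : 1 ≤ (p ^ f) ^ k := Nat.one_le_pow _ _ (pow_pos hp.pos _)
  have h3 : p ∣ (p ^ f) ^ k - ((p ^ f) ^ k - 1) := Nat.dvd_sub h1 h
  rw [Nat.sub_sub_self h2] at h3
  exact hp.one_lt.ne' (Nat.dvd_one.1 h3)

theorem exp_ne_zero {p f : ℕ} (hF : Fintype.card F = p ^ f) : f ≠ 0 := by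
  rintro rfl
  have := Fintype.one_lt_card (α := F)
  rw [hF] at this
  simp at this

/-- the power of `p` dividing the order of `SL_n(q)` -/
theorem fact_SL {p f n : ℕ} (hp : p.Prime) (hF : Fintype.card F = p ^ f) (hn : 1 ≤ n) :
    (Nat.card (_root_.Matrix.SpecialLinearGroup (Fin n) F)).factorization p = f * (n * (n - 1) / 2) := by
  have hf := exp_ne_zero hF
  have h := S0242.result (F := F) hF n hn
  rw [prod_gl] at h
  have hq1 : p ^ f - 1 ≠ 0 := by
    have := Nat.one_lt_pow hf hp.one_lt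
    omega
  have hP : ∏ i ∈ Finset.range n, ((p ^ f) ^ (i + 1) - 1) ≠ 0 := by
    rw [Finset.prod_ne_zero_iff]
    intro i _
    have : 1 < (p ^ f) ^ (i + 1) := Nat.one_lt_pow (by omega) (Nat.one_lt_pow hf hp.one_lt)
    omega
  have h1 := congrArg (fun x : ℕ => x.factorization p) h
  rw [Nat.factorization_mul hq1 Nat.card_pos.ne',
    Nat.factorization_mul (pow_ne_zero _ (pow_ne_zero _ hp.ne_zero)) hP, Finsupp.add_apply, Finsupp.add_apply,
    ← pow_mul, hp.factorization_pow, Finsupp.single_eq_same] at h1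
  have h2 : (p ^ f - 1).factorization p = 0 := by
    have := not_dvd_pow_sub hp hf one_ne_zero
    rw [pow_one] at this
    exact Nat.factorization_eq_zero_of_not_dvd this
  have h3 : (∏ i ∈ Finset.range n, ((p ^ f) ^ (i + 1) - 1)).factorization p = 0 := by
    apply Nat.factorization_eq_zero_of_not_dvd
    rw [hp.prime.dvd_finsetProd_iff]
    rintro ⟨i, -, hi⟩
    exact not_dvd_pow_sub hp hf (by omega) hi
  rw [h2, h3, zero_add, add_zero] at h1
  exact h1

end card

end Cfsg.Agent.H78.CodF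
end

-- part: H78/CodG
section
/-!
# The defining characteristic: `V` an elementary abelian `p`-group, `G/V = L_n(q)`, `q` a power of `p`
-/

set_option autoImplicit false
set_option linter.unusedSectionVars false

namespace Cfsg.Agent.H78.CodG

open Cfsg Matrix Cfsg.Agent.GpLn.Block
open scoped commutatorElement

universe u v w

variable {G : Type u} [Group G] [Finite G] {V : Subgroup G} [hVn : V.Normal] {X : Type v} [Group X]

/-- the preimage in `G` of the image of a subgroup -/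
def hat (s : X →* G ⧸ V) (A : Subgroup X) : Subgroup G := (A.map s).comap (QuotientGroup.mk' V)

theorem mem_hat {s : X →* G ⧸ V} {A : Subgroup X} {g : G} : g ∈ hat s A ↔ ∃ a ∈ A, s a = (g : G ⧸ V) :=
  Iff.rfl

theorem le_hat (s : X →* G ⧸ V) (A : Subgroup X) : V ≤ hat s A := by
  intro v hv
  rw [mem_hat]
  exact ⟨1, A.one_mem, by rw [map_one]; exact ((QuotientGroup.eq_one_iff v).2 hv).symm⟩

theorem index_hat (s : X →* G ⧸ V) (A : Subgroup X) : (hat s A).index = (A.map s).index :=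
  Subgroup.index_comap_of_surjective _ (QuotientGroup.mk'_surjective V)

theorem hat_pgroup {p : ℕ} (hV : IsPGroup p V) (s : X →* G ⧸ V) {A : Subgroup X} (hA : IsPGroup p A) :
    IsPGroup p (hat s A) :=
  IsPGroup.comap_of_ker_isPGroup (hA.map s) _ (by rw [QuotientGroup.ker_mk']; exact hV)

theorem hat_normalizes (s : X →* G ⧸ V) {A B : Subgroup X} (h : ∀ b ∈ B, ∀ a ∈ A, b * a * b⁻¹ ∈ A) :
    hat s B ≤ Subgroup.normalizer (hat s A : Set G) := by
  have key : ∀ g ∈ hat s B, ∀ x ∈ hat s A, g * x * g⁻¹ ∈ hat s A := by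
    intro g hg x hx
    obtain ⟨b, hb, hbg⟩ := mem_hat.1 hg
    obtain ⟨a, ha, hax⟩ := mem_hat.1 hx
    rw [mem_hat]
    refine ⟨b * a * b⁻¹, h b hb a ha, ?_⟩
    rw [map_mul, map_mul, map_inv, hbg, hax]
    rfl
  intro g hg
  rw [Subgroup.mem_normalizer_iff]
  intro x
  refine ⟨fun hx => key g hg x hx, fun hx => ?_⟩
  have h1 := key g⁻¹ ((hat s B).inv_mem hg) _ hx
  have h2 : g⁻¹ * (g * x * g⁻¹) * g⁻¹⁻¹ = x := by group
  rwa [h2] at h1

theorem hat_sup {s : X →* G ⧸ V} (hs : Function.Surjective s) {A B : Subgroup X} (h : A ⊔ B = ⊤) :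
    hat s A ⊔ hat s B = ⊤ := by
  have h1 : (hat s A ⊔ hat s B).map (QuotientGroup.mk' V) = ⊤ := by
    rw [Subgroup.map_sup, hat, hat, Subgroup.map_comap_eq_self_of_surjective (QuotientGroup.mk'_surjective V),
      Subgroup.map_comap_eq_self_of_surjective (QuotientGroup.mk'_surjective V), ← Subgroup.map_sup, h,
      ← MonoidHom.range_eq_map, MonoidHom.range_eq_top.2 hs]
  have h2 := Subgroup.comap_map_eq (QuotientGroup.mk' V) (hat s A ⊔ hat s B)
  rw [h1, Subgroup.comap_top, QuotientGroup.ker_mk'] at h2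
  rw [h2]
  exact le_antisymm le_sup_left (sup_le le_rfl ((le_hat s A).trans le_sup_left))

/-- the numerical consequence of `|V|` dividing the index -/
theorem fact_le {p : ℕ} (hp : p.Prime) (s : X →* G ⧸ V) (hs : Function.Surjective s) [Finite X] {c : ℕ}
    (hc : Nat.card V = p ^ c) {A : Subgroup X} (hinj : Function.Injective (s.comp A.subtype))
    (h : Nat.card V ∣ (hat s A).index) :
    c + (Nat.card A).factorization p ≤ (Nat.card X).factorization p := by
  have hA : Nat.card (A.map s) = Nat.card A := by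
    have h1 : (s.comp A.subtype).range = A.map s := by rw [MonoidHom.range_comp, Subgroup.range_subtype]
    rw [← h1]
    exact (Nat.card_congr (MonoidHom.ofInjective hinj).toEquiv).symm
  rw [index_hat] at h
  have h1 : Nat.card V * Nat.card A ∣ Nat.card (G ⧸ V) := by
    rw [← hA, ← Subgroup.card_mul_index (A.map s), mul_comm]
    exact Nat.mul_dvd_mul_left _ h
  have h2 : Nat.card (G ⧸ V) ∣ Nat.card X := Subgroup.card_dvd_of_surjective s hs
  have h3 := (Nat.factorization_le_iff_dvd (Nat.mul_ne_zero Nat.card_pos.ne' Nat.card_pos.ne')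
    Nat.card_pos.ne').2 (h1.trans h2) p
  rw [Nat.factorization_mul Nat.card_pos.ne' Nat.card_pos.ne', Finsupp.add_apply, hc,
    hp.factorization_pow, Finsupp.single_eq_same] at h3
  exact h3

theorem card_SL_eq {F : Type w} [Field F] [Fintype F] {ι : Type} [Fintype ι] [DecidableEq ι] {n : ℕ}
    (h : Fintype.card ι = n) : Nat.card (_root_.Matrix.SpecialLinearGroup ι F) = Nat.card (_root_.Matrix.SpecialLinearGroup (Fin n) F) :=
  Nat.card_congr (GpLn.Elem.slReindex (Fintype.equivFinOfCardEq h)).toEquiv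

theorem SLQuasisimple_ne {F : Type w} [Field F] [Fintype F] {n : ℕ} (hn : 3 ≤ n) :
    Subgroup.center (_root_.Matrix.SpecialLinearGroup (Fin n) F) ≠ ⊤ := by
  intro h
  have hq := Cfsg.Agent.SignalizersComponents.SLQuasisimple.isQuasisimple_of_three_le (F := F) (ι := Fin n)
    (by rw [Fintype.card_fin]; omega)
  have h1 := hq.2
  have h2 : Nontrivial (_root_.Matrix.SpecialLinearGroup (Fin n) F ⧸ Subgroup.center (_root_.Matrix.SpecialLinearGroup (Fin n) F)) := h1.toNontrivial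
  exact (QuotientGroup.nontrivial_iff.1 h2) h

theorem charP_of_card {F : Type w} [Field F] [Fintype F] {p f : ℕ} (hp : p.Prime) (hF : Fintype.card F = p ^ f) :
    CharP F p := by
  have := Fact.mk hp
  have hf := CodF.exp_ne_zero hF
  obtain ⟨n, hr, hn⟩ := FiniteField.card F (ringChar F)
  have h1 : ringChar F ∣ p ^ f := by
    rw [← hF, hn]
    exact dvd_pow_self _ n.2.ne'
  have h2 : ringChar F = p := (Nat.prime_dvd_prime_iff_eq hr hp).1 (hr.dvd_of_dvd_pow h1)
  exact ringChar.of_eq h2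

section generic

variable {F : Type w} [Field F] [Fintype F]

/-- the generic case -/
theorem generic {p f m : ℕ} [hp : Fact p.Prime] (hF : Fintype.card F = p ^ f) (hm : 4 ≤ m)
    (h42 : ¬ (m = 4 ∧ Fintype.card F = 2)) (hB : CodA.Big V)
    (hab : ∀ x ∈ V, ∀ y ∈ V, x * y = y * x) (hexp : ∀ x ∈ V, x ^ p = 1) (hV1 : V ≠ ⊥)
    (hmin : ∀ J : Subgroup G, J.Normal → J ≤ V → J = ⊥ ∨ J = V)
    (hC : Subgroup.centralizer (V : Set G) ≤ V)
    (s : _root_.Matrix.SpecialLinearGroup (Fin 1 ⊕ Fin m) F →* G ⧸ V) (hs : Function.Surjective s)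
    (hker : s.ker = Subgroup.center (_root_.Matrix.SpecialLinearGroup (Fin 1 ⊕ Fin m) F))
    (h1 : (p ^ f) ^ (m + 1) ≤ Nat.card V) (h2 : Nat.card V < (p ^ f) ^ m * (p ^ f) ^ m) : False := by
  have hchar := charP_of_card hp.out hF
  have hVp : IsPGroup p V := fun v => ⟨1, by rw [pow_one]; exact Subtype.ext (hexp _ v.2)⟩
  obtain ⟨c, hc⟩ := IsPGroup.iff_card.1 hVp
  have hf := CodF.exp_ne_zero hF
  -- the subgroups
  set Q₁ := hat s (CodF.up (F := F) (m := m)).range with hQ₁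
  set Q₂ := hat s (CodF.dn (F := F) (m := m)).range with hQ₂
  set M := hat s (low (F := F) (κ := Fin m) (Fin 1)).range with hM
  have hinj : Function.Injective (s.comp (low (F := F) (κ := Fin m) (Fin 1))) := by
    rw [injective_iff_map_eq_one]
    intro D hD
    apply low_center (ι := Fin 1)
    rw [← hker]
    exact hD
  have hMQ1 : M ≤ Subgroup.normalizer (Q₁ : Set G) := by
    apply hat_normalizes
    rintro _ ⟨D, rfl⟩ _ ⟨u, rfl⟩
    rw [CodF.low_up, mul_inv_cancel_right]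
    exact ⟨_, rfl⟩
  have hMQ2 : M ≤ Subgroup.normalizer (Q₂ : Set G) := by
    apply hat_normalizes
    rintro _ ⟨D, rfl⟩ _ ⟨u, rfl⟩
    rw [CodF.low_dn, mul_inv_cancel_right]
    exact ⟨_, rfl⟩
  have hpQ1 : IsPGroup p Q₁ := hat_pgroup hVp s
    ((CodF.isPGroup_mul (F := F) (a := Fin 1) (b := Fin m) (p := p)).of_surjective _
      (CodF.up (F := F) (m := m)).rangeRestrict_surjective)
  have hpQ2 : IsPGroup p Q₂ := hat_pgroup hVp s
    ((CodF.isPGroup_mul (F := F) (a := Fin m) (b := Fin 1) (p := p)).of_surjective _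
      (CodF.dn (F := F) (m := m)).rangeRestrict_surjective)
  -- the projection of `M`
  have hπ : ∃ π : M →* _root_.Matrix.SpecialLinearGroup (Fin m) F, Function.Surjective π ∧
      ∀ g : M, π g = 1 ↔ (g : G) ∈ V := by
    let e := MonoidHom.ofInjective hinj
    have hmem : ∀ g : M, ((g : G) : G ⧸ V) ∈ (s.comp (low (F := F) (κ := Fin m) (Fin 1))).range := by
      intro g
      obtain ⟨_, ⟨D, rfl⟩, ha⟩ := mem_hat.1 g.2
      exact ⟨D, ha⟩
    let ρ : M →* (s.comp (low (F := F) (κ := Fin m) (Fin 1))).range :=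
      ((QuotientGroup.mk' V).comp M.subtype).codRestrict _ hmem
    refine ⟨e.symm.toMonoidHom.comp ρ, ?_, ?_⟩
    · refine e.symm.surjective.comp ?_
      rintro ⟨_, D, rfl⟩
      obtain ⟨g, hg⟩ := QuotientGroup.mk'_surjective V (s (low (Fin 1) D))
      refine ⟨⟨g, mem_hat.2 ⟨_, ⟨D, rfl⟩, hg.symm⟩⟩, ?_⟩
      exact Subtype.ext hg
    · intro g
      change e.symm (ρ g) = 1 ↔ _
      rw [map_eq_one_iff e.symm e.symm.injective]
      rw [Subtype.ext_iff]
      exact QuotientGroup.eq_one_iff (g : G)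
  obtain ⟨π, hπs, hπk⟩ := hπ
  have hnt : ⁅V, Q₁⁆ ≠ ⊥ := by
    intro h
    have h3 : Q₁ ≤ V := by
      refine le_trans ?_ hC
      intro q hq
      rw [Subgroup.mem_centralizer_iff]
      intro v hv
      have h4 : ⁅v, q⁆ ∈ ⁅V, Q₁⁆ := Subgroup.commutator_mem_commutator hv hq
      rw [h, Subgroup.mem_bot, commutatorElement_eq_one_iff_mul_comm] at h4
      exact h4
    let u : Multiplicative (Matrix (Fin 1) (Fin m) F) :=
      Multiplicative.ofAdd (Matrix.single (0 : Fin 1) (⟨0, by omega⟩ : Fin m) 1)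
    obtain ⟨g, hg⟩ := QuotientGroup.mk'_surjective V (s (CodF.up u))
    have h4 : g ∈ V := h3 (mem_hat.2 ⟨_, ⟨u, rfl⟩, hg.symm⟩)
    have h5 : s (CodF.up u) = 1 := by
      rw [← hg]
      exact (QuotientGroup.eq_one_iff g).2 h4
    have h6 : CodF.up u ∈ Subgroup.center (_root_.Matrix.SpecialLinearGroup (Fin 1 ⊕ Fin m) F) := by
      rw [← hker]; exact h5
    have h7 := CodF.up_center h6
    have h8 := congrFun (congrFun (congrArg Multiplicative.toAdd h7) (0 : Fin 1)) (⟨0, by omega⟩ : Fin m)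
    change Matrix.single (0 : Fin 1) (⟨0, by omega⟩ : Fin m) (1 : F) 0 (⟨0, by omega⟩ : Fin m) = 0 at h8
    rw [Matrix.single_apply_same] at h8
    exact one_ne_zero h8
  rcases CodC.two_sides hab hV1 hmin hpQ1 hpQ2 (le_hat s _) (le_hat s _) hMQ1 hMQ2
    (hat_sup hs CodF.sup_eq_top) hnt (B := (p ^ f) ^ m)
    (fun D hD hMD h => CodE.count hF hm hab hexp π hπs (fun g hg => (hπk g).1 hg) D hD hMD h) with h | h
  · have hok : H60.MultA.Ok m (Nat.card F) := by
      rw [Nat.card_eq_fintype_card]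
      refine ⟨by omega, by omega, ?_⟩
      simp only [Set.mem_insert_iff, Set.mem_singleton_iff, Prod.mk.injEq, not_or]
      refine ⟨by omega, by omega, by omega, by omega, h42⟩
    have h3 := CodE.not_le_of_trivial (P := _root_.Matrix.SpecialLinearGroup (Fin m) F) ⟨H60.MultA.perfect_SL hok⟩
      (H60.MultA.hasTrivial_SL hok) π hπs (le_hat s _) hπk h
    have h4 := CodC.dvd_index hB (le_hat s _) h3
    have hinj' : Function.Injective (s.comp (low (F := F) (κ := Fin m) (Fin 1)).range.subtype) := by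
      rw [injective_iff_map_eq_one]
      rintro ⟨_, D, rfl⟩ hD
      have h5 : s (low (Fin 1) D) = 1 := hD
      have h6 : D = 1 := by
        apply hinj
        rw [map_one]
        exact h5
      apply Subtype.ext
      change low (Fin 1) D = 1
      rw [h6, map_one]
    have h5 := fact_le hp.out s hs hc hinj' h4
    have hlow : Nat.card (low (F := F) (κ := Fin m) (Fin 1)).range = Nat.card (_root_.Matrix.SpecialLinearGroup (Fin m) F) := by
      have hli : Function.Injective (low (F := F) (κ := Fin m) (Fin 1)) := fun a b hab' =>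
        hinj (congrArg s hab')
      exact (Nat.card_congr (MonoidHom.ofInjective hli).toEquiv).symm
    rw [hlow, card_SL_eq (ι := Fin 1 ⊕ Fin m) (n := m + 1) (by simp only [add_comm, _root_.Fintype.card_sum, _root_.Fintype.card_unique, _root_.Fintype.card_fin, _root_.Nat.add_left_cancel_iff]), CodF.fact_SL hp.out hF (by omega),
      CodF.fact_SL hp.out hF (by omega)] at h5
    rw [hc, ← pow_mul] at h1
    have h6 := (Nat.pow_le_pow_iff_right hp.out.one_lt).1 h1
    have h7 : (m + 1) * (m + 1 - 1) / 2 = m * (m - 1) / 2 + m := by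
      rw [Nat.add_sub_cancel]
      obtain ⟨j, rfl⟩ : ∃ j, m = j + 1 := ⟨m - 1, by omega⟩
      rw [Nat.add_sub_cancel]
      have h8 : (j + 1 + 1) * (j + 1) = (j + 1) * j + (j + 1) * 2 := by ring
      rw [h8, Nat.add_mul_div_right _ _ (by norm_num)]
    rw [h7, mul_add] at h5
    have h8 : f * (m + 1) = f * m + f := by ring
    omega
  · omega

/-- the matrix of order three -/
def om3 (F : Type*) [Field F] : Matrix (Fin 2) (Fin 2) F := !![0, -1; 1, -1]

omit [Fintype F] in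
theorem om3_det : (om3 F).det = 1 := by
  rw [om3, Matrix.det_fin_two_of]
  ring

omit [Fintype F] in
theorem om3_cube : om3 F * om3 F * om3 F = 1 := by
  rw [om3, Matrix.mul_fin_two, Matrix.mul_fin_two, Matrix.one_fin_two]
  congr 1 <;> simp

omit [Fintype F] in
theorem om3_sub : (om3 F - (1 : F) • (1 : Matrix (Fin 2) (Fin 2) F)).det = 3 := by
  rw [om3, Matrix.one_fin_two, one_smul, Matrix.det_fin_two]
  simp
  ring

theorem gap {f k : ℕ} : f * ((k + 2) * (k + 2 - 1) / 2) = f * (k * (k - 1) / 2) + f * (2 * k + 1) := by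
  rw [← mul_add]
  congr 1
  rcases Nat.eq_zero_or_pos k with rfl | hk
  · rfl
  obtain ⟨j, rfl⟩ : ∃ j, k = j + 1 := ⟨k - 1, by omega⟩
  have h1 : (j + 1 + 2) * (j + 1 + 2 - 1) = (j + 1) * (j + 1 - 1) + (2 * (j + 1) + 1) * 2 := by
    have h2 : j + 1 + 2 - 1 = j + 2 := by omega
    rw [h2, Nat.add_sub_cancel]
    ring
  rw [h1, Nat.add_mul_div_right _ _ (by norm_num)]

/-- the bound from an element of `SL_2` -/
theorem star {p f k : ℕ} [hp : Fact p.Prime] (hF : Fintype.card F = p ^ f) (hk : 1 ≤ k) (hB : CodA.Big V)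
    (hab : ∀ x ∈ V, ∀ y ∈ V, x * y = y * x) (hexp : ∀ x ∈ V, x ^ p = 1)
    (hC : Subgroup.centralizer (V : Set G) ≤ V)
    (s : _root_.Matrix.SpecialLinearGroup (Fin 2 ⊕ Fin k) F →* G ⧸ V) (hs : Function.Surjective s)
    (hker : s.ker = Subgroup.center (_root_.Matrix.SpecialLinearGroup (Fin 2 ⊕ Fin k) F)) {c : ℕ}
    (hc : Nat.card V = p ^ c) : c ≤ f * (2 * k + 1) := by
  have hchar := charP_of_card hp.out hF
  have hVp : IsPGroup p V := fun v => ⟨1, by rw [pow_one]; exact Subtype.ext (hexp _ v.2)⟩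
  have : Nonempty (Fin k) := ⟨⟨0, by omega⟩⟩
  have hinj : Function.Injective (s.comp (low (F := F) (κ := Fin k) (Fin 2))) := by
    rw [injective_iff_map_eq_one]
    intro D hD
    apply low_center (ι := Fin 2)
    rw [← hker]
    exact hD
  -- the element
  obtain ⟨x, m, hxm, hpm, hxc, hxl⟩ : ∃ (x : _root_.Matrix.SpecialLinearGroup (Fin 2 ⊕ Fin k) F) (m : ℕ), x ^ m = 1 ∧
      ¬ p ∣ m ∧ x ∉ Subgroup.center (_root_.Matrix.SpecialLinearGroup (Fin 2 ⊕ Fin k) F) ∧
      ∀ D : _root_.Matrix.SpecialLinearGroup (Fin k) F, low (Fin 2) D * x = x * low (Fin 2) D := by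
    by_cases hp3 : p = 3
    · have h2 : (2 : F) ≠ 0 := by
        intro h
        have h3 : ((2 : ℕ) : F) = 0 := by exact_mod_cast h
        rw [CharP.cast_eq_zero_iff F p, hp3] at h3
        omega
      let x : _root_.Matrix.SpecialLinearGroup (Fin 2 ⊕ Fin k) F := blk (-1 : Matrix (Fin 2) (Fin 2) F)
        ((1 : F) • (1 : Matrix (Fin k) (Fin k) F)) (by simp only [Matrix.det_neg, _root_.Fintype.card_fin, _root_.even_two, _root_.Even.neg_pow, _root_.one_pow, _root_.Matrix.det_one, _root_.mul_one, _root_.one_smul])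
      have hx : (x : Matrix (Fin 2 ⊕ Fin k) (Fin 2 ⊕ Fin k) F) =
          fromBlocks (-1) 0 0 ((1 : F) • (1 : Matrix (Fin k) (Fin k) F)) := rfl
      have hA : ((-1 : Matrix (Fin 2) (Fin 2) F) - (1 : F) • (1 : Matrix (Fin 2) (Fin 2) F)).det ≠ 0 := by
        have h4 : ((-1 : Matrix (Fin 2) (Fin 2) F) - (1 : F) • (1 : Matrix (Fin 2) (Fin 2) F)) =
            (-2 : F) • (1 : Matrix (Fin 2) (Fin 2) F) := by
          ext i j
          simp only [Matrix.sub_apply, Matrix.neg_apply, Matrix.smul_apply, smul_eq_mul]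
          ring
        rw [h4, Matrix.det_smul, Matrix.det_one, mul_one]
        exact pow_ne_zero _ (neg_ne_zero.2 h2)
      refine ⟨x, 2, ?_, by rw [hp3]; norm_num, GpLn.Quot.not_mem_center hA hx, fun D => low_comm hx D⟩
      refine ext' ?_
      rw [pow_two, Matrix.SpecialLinearGroup.coe_mul, hx, fromBlocks_multiply]
      simp only [_root_.mul_neg, _root_.mul_one, _root_.neg_neg, _root_.Matrix.mul_zero, _root_.add_zero, _root_.one_smul, _root_.Matrix.mul_one, _root_.Matrix.mul_neg, _root_.neg_zero, _root_.zero_add, _root_.Matrix.fromBlocks_one, _root_.Matrix.SpecialLinearGroup.coe_one]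
    · have h3 : (3 : F) ≠ 0 := by
        intro h
        have h4 : ((3 : ℕ) : F) = 0 := by exact_mod_cast h
        rw [CharP.cast_eq_zero_iff F p] at h4
        exact hp3 ((Nat.prime_dvd_prime_iff_eq hp.out Nat.prime_three).1 h4)
      let x : _root_.Matrix.SpecialLinearGroup (Fin 2 ⊕ Fin k) F := blk (om3 F)
        ((1 : F) • (1 : Matrix (Fin k) (Fin k) F))
        (by rw [om3_det, one_smul, Matrix.det_one, one_mul])
      have hx : (x : Matrix (Fin 2 ⊕ Fin k) (Fin 2 ⊕ Fin k) F) =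
          fromBlocks (om3 F) 0 0 ((1 : F) • (1 : Matrix (Fin k) (Fin k) F)) := rfl
      have hA : (om3 F - (1 : F) • (1 : Matrix (Fin 2) (Fin 2) F)).det ≠ 0 := by
        rw [om3_sub]
        exact h3
      refine ⟨x, 3, ?_, ?_, GpLn.Quot.not_mem_center hA hx, fun D => low_comm hx D⟩
      · refine ext' ?_
        rw [pow_succ, pow_two, Matrix.SpecialLinearGroup.coe_mul, Matrix.SpecialLinearGroup.coe_mul, hx,
          fromBlocks_multiply, fromBlocks_multiply]
        simp only [one_smul, Matrix.mul_zero, Matrix.zero_mul, add_zero, zero_add, Matrix.mul_one,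
          om3_cube]
        exact fromBlocks_one
      · intro h
        exact hp3 ((Nat.prime_dvd_prime_iff_eq hp.out Nat.prime_three).1 h)
  -- the `p`-subgroup
  let S : Sylow p (_root_.Matrix.SpecialLinearGroup (Fin k) F) := default
  set B : Subgroup (_root_.Matrix.SpecialLinearGroup (Fin 2 ⊕ Fin k) F) :=
    (S : Subgroup (_root_.Matrix.SpecialLinearGroup (Fin k) F)).map (low (Fin 2)) with hBdef
  have hBp : IsPGroup p B := S.isPGroup'.map _
  obtain ⟨g, hg⟩ := QuotientGroup.mk'_surjective V (s x)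
  have hnot := CodC.not_le_commutator (p := p) hab (hat_pgroup hVp s hBp) (le_hat s B) (x := g) (m := m)
    (by
      intro a ha
      obtain ⟨b, hb, hba⟩ := mem_hat.1 ha
      obtain ⟨D, -, rfl⟩ := hb
      rw [← QuotientGroup.eq_one_iff]
      have h1 : ((⁅a, g⁆ : G) : G ⧸ V) = ⁅s (low (Fin 2) D), s x⁆ := by
        rw [hba, ← hg]
        rfl
      rw [h1, ← map_commutatorElement, commutatorElement_eq_one_iff_mul_comm.2 (hxl D), map_one])
    hpm (by
      intro v hv
      have h1 : g ^ m ∈ V := by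
        rw [← QuotientGroup.eq_one_iff, QuotientGroup.mk_pow]
        change (QuotientGroup.mk' V g) ^ m = 1
        rw [hg, ← map_pow, hxm, map_one]
      exact hab _ h1 _ hv) (by
      by_contra hcon
      push Not at hcon
      have h1 : g ∈ V := hC (by
        rw [Subgroup.mem_centralizer_iff]
        intro v hv
        exact (hcon v hv).symm)
      apply hxc
      rw [← hker, MonoidHom.mem_ker, ← hg]
      exact (QuotientGroup.eq_one_iff g).2 h1)
  have h1 := CodC.dvd_index hB (le_hat s B) hnot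
  have hinj' : Function.Injective (s.comp B.subtype) := by
    rw [injective_iff_map_eq_one]
    rintro ⟨_, D, hD, rfl⟩ h
    have h5 : s (low (Fin 2) D) = 1 := h
    have h6 : D = 1 := by
      apply hinj
      rw [map_one]
      exact h5
    apply Subtype.ext
    change low (Fin 2) D = 1
    rw [h6, map_one]
  have h2 := fact_le hp.out s hs hc hinj' h1
  have hli : Function.Injective (low (F := F) (κ := Fin k) (Fin 2)) := fun a b hab' =>
    hinj (congrArg s hab')
  have hcB : Nat.card B = p ^ (f * (k * (k - 1) / 2)) := by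
    rw [hBdef, Nat.card_congr ((S : Subgroup (_root_.Matrix.SpecialLinearGroup (Fin k) F)).equivMapOfInjective _ hli).toEquiv.symm,
      Sylow.card_eq_multiplicity, CodF.fact_SL hp.out hF hk]
  rw [hcB, hp.out.factorization_pow, Finsupp.single_eq_same,
    card_SL_eq (ι := Fin 2 ⊕ Fin k) (n := k + 2) (by simp [add_comm]), CodF.fact_SL hp.out hF (by omega), gap] at h2
  omega

end generic

end Cfsg.Agent.H78.CodG
end

-- part: H78/CodH
section
/-!
# `|V|²` divides `|G/V|`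
-/

set_option autoImplicit false
set_option linter.unusedSectionVars false

namespace Cfsg.Agent.H78.CodH

open Cfsg Cfsg.Agent.Characters Cfsg.Agent.H686.CharKit

universe u

variable {G : Type u} [Group G] [Finite G]

theorem sq_dvd {V : Subgroup G} [V.Normal] (hB : CodA.Big V) : Nat.card V ^ 2 ∣ Nat.card (G ⧸ V) := by
  classical
  have := Core.finite_irr (G := G)
  have := Fintype.ofFinite (IrrCharacter G)
  have := Fintype.ofFinite G
  have h := CharDeep.FrobKernel.sum_degree_sq_of_ne V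
  have h1 : ((∑ ζ ∈ Finset.univ.filter (fun ζ : IrrCharacter G => ∃ k ∈ V, (ζ : G → ℂ) k ≠ (ζ : G → ℂ) 1),
      charDegree (ζ : G → ℂ) ^ 2 : ℕ) : ℂ) = ((V.index * (Nat.card V - 1) : ℕ) : ℂ) := by
    push_cast
    rw [Nat.cast_sub Nat.card_pos, Nat.cast_one, ← h]
    refine Finset.sum_congr rfl fun ζ _ => ?_
    rw [charDegree_irr, sq]
  have h2 := Nat.cast_injective (R := ℂ) h1
  have h3 : Nat.card V ^ 2 ∣ ∑ ζ ∈ Finset.univ.filter (fun ζ : IrrCharacter G => ∃ k ∈ V,
      (ζ : G → ℂ) k ≠ (ζ : G → ℂ) 1), charDegree (ζ : G → ℂ) ^ 2 := by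
    apply Finset.dvd_sum
    intro ζ hζ
    obtain ⟨k, hk, hne⟩ := (Finset.mem_filter.1 hζ).2
    exact pow_dvd_pow_of_dvd (hB ζ fun hle => hne (hle hk)) 2
  rw [h2] at h3
  have h4 : Nat.Coprime (Nat.card V ^ 2) (Nat.card V - 1) := by
    apply Nat.Coprime.pow_left
    have h5 : 1 ≤ Nat.card V := Nat.card_pos
    rw [Nat.coprime_comm]
    exact (Nat.coprime_self_sub_left h5).2 (Nat.coprime_one_left _)
  have h6 := h4.dvd_of_dvd_mul_right h3
  exact h6

end Cfsg.Agent.H78.CodH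
end

-- part: H78/CodI
section
/-!
# `V` is not central: the characteristic and the cross characteristic case
-/

set_option autoImplicit false
set_option linter.unusedSectionVars false

namespace Cfsg.Agent.H78.CodI

open Cfsg Matrix Cfsg.Agent.GpLn.Block
open scoped commutatorElement

universe u v w

variable {G : Type u} [Group G] [Finite G] {V : Subgroup G} [hVn : V.Normal]
variable {F : Type w} [Field F] [Fintype F]

/-- the defining characteristic; `L_5(2)` is excluded here -/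
theorem def_char {p f n : ℕ} [hp : Fact p.Prime] (hF : Fintype.card F = p ^ f) (hn : 4 ≤ n)
    (h52 : ¬ (n = 5 ∧ Fintype.card F = 2)) (hB : CodA.Big V)
    (hab : ∀ x ∈ V, ∀ y ∈ V, x * y = y * x) (hexp : ∀ x ∈ V, x ^ p = 1) (hV1 : V ≠ ⊥)
    (hmin : ∀ J : Subgroup G, J.Normal → J ≤ V → J = ⊥ ∨ J = V)
    (hC : Subgroup.centralizer (V : Set G) ≤ V)
    (e : G ⧸ V ≃* ProjectiveSpecialLinearGroup (Fin n) F) : False := by
  obtain ⟨c, hcinj, -⟩ := Lib.ElemAbGL.exists_injective_hom_mulAut V hab hC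
  have hf := CodF.exp_ne_zero hF
  obtain ⟨s, hs, hker⟩ := GpLn.Elem.exists_proj (α := Fin n) e (by simp only [_root_.Fintype.card_fin])
  have hVp : IsPGroup p V := fun v => ⟨1, by rw [pow_one]; exact Subtype.ext (hexp _ v.2)⟩
  obtain ⟨k, hk⟩ := IsPGroup.iff_card.1 hVp
  have hN : Nontrivial (Fin n) := Fin.nontrivial_iff_two_le.2 (by omega)
  -- `|V| ≥ q ^ n`
  have h1 : (p ^ f) ^ n ≤ Nat.card V := by
    refine CodD.le_card hF hn (W := V) (fun a b => Subtype.ext (hab _ a.2 _ b.2))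
      (fun a => Subtype.ext (hexp _ a.2)) (c.comp s) ?_
    intro h
    have h2 : s.ker = ⊤ := by
      rw [eq_top_iff, ← h]
      intro x hx
      rw [MonoidHom.mem_ker] at hx ⊢
      apply hcinj
      rw [map_one]
      exact hx
    rw [hker] at h2
    have hq := (CodG.SLQuasisimple_ne (n := n) (F := F) (by omega))
    exact hq h2
  have h1' := h1
  rw [hk, ← pow_mul] at h1'
  have h3 := (Nat.pow_le_pow_iff_right hp.out.one_lt).1 h1'
  rcases (show n = 4 ∨ 5 ≤ n by omega) with rfl | hn5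
  · -- `|V|² ∣ |L|`
    have h4 := (CodH.sq_dvd hB).trans (Subgroup.card_dvd_of_surjective s hs)
    rw [hk] at h4
    have h5 := (Nat.factorization_le_iff_dvd (pow_ne_zero _ (pow_ne_zero _ hp.out.ne_zero)) Nat.card_pos.ne').2 h4 p
    rw [← pow_mul, hp.out.factorization_pow, Finsupp.single_eq_same, CodF.fact_SL hp.out hF (by omega)] at h5
    omega
  · obtain ⟨m, rfl⟩ : ∃ m, n = m + 1 := ⟨n - 1, by omega⟩
    obtain ⟨s₁, hs₁, hker₁⟩ := GpLn.Elem.exists_proj (α := Fin 1 ⊕ Fin m) e (by simp only [add_comm, _root_.Fintype.card_sum, _root_.Fintype.card_unique, _root_.Fintype.card_fin, _root_.Nat.add_left_cancel_iff])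
    obtain ⟨s₂, hs₂, hker₂⟩ := GpLn.Elem.exists_proj (α := Fin 2 ⊕ Fin (m - 1)) e (by simp only [_root_.Fintype.card_sum, _root_.Fintype.card_fin]; omega)
    have h4 := CodG.star hF (by omega) hB hab hexp hC s₂ hs₂ hker₂ hk
    refine CodG.generic hF (by omega) ?_ hB hab hexp hV1 hmin hC s₁ hs₁ hker₁ h1 ?_
    · rintro ⟨rfl, h⟩
      exact h52 ⟨rfl, h⟩
    · rw [hk, ← pow_mul, ← pow_add]
      apply Nat.pow_lt_pow_right hp.out.one_lt
      have h5 : 2 * (m - 1) + 1 + 1 = m + m := by omega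
      have h6 : f * (2 * (m - 1) + 1) + f = f * m + f * m := by rw [← mul_add, ← h5]; ring
      omega

/-! ### cross characteristic -/

theorem num_ge {q n : ℕ} (hq : 2 ≤ q) (hn : 4 ≤ n) : (q - 1) * (n * (n + 1)) < 4 * (q ^ (n - 1) - 1) := by
  obtain ⟨t, rfl⟩ : ∃ t, q = t + 1 := ⟨q - 1, by omega⟩
  obtain ⟨m, rfl⟩ : ∃ m, n = m + 4 := ⟨n - 4, by omega⟩
  have ht : 1 ≤ t := by omega
  have h3 : m + 4 - 1 = m + 3 := by omega
  rw [Nat.add_sub_cancel, h3]
  have key : t * ((m + 4) * (m + 4 + 1)) + 4 < 4 * (t + 1) ^ (m + 3) := by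
    induction m with
    | zero =>
      have h1 : (t + 1) ^ (0 + 3) = t ^ 3 + 3 * t ^ 2 + 3 * t + 1 := by ring
      rw [h1]
      have h2 : t ≤ t ^ 2 := by nlinarith only []
      have h4 : t ≤ t ^ 3 := by nlinarith only [h2]
      omega
    | succ m ih =>
      have ih := ih (by omega) (by omega)
      have h1 : (t + 1) ^ (m + 1 + 3) = (t + 1) ^ (m + 3) * t + (t + 1) ^ (m + 3) := by ring
      have h2 : (t + 1) ^ (m + 3) * 1 ≤ (t + 1) ^ (m + 3) * t := Nat.mul_le_mul_left _ ht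
      rw [mul_one] at h2
      rw [h1]
      have h5 : t * ((m + 1 + 4) * (m + 1 + 4 + 1)) ≤ 2 * (t * ((m + 4) * (m + 4 + 1))) := by
        have h6 : (m + 1 + 4) * (m + 1 + 4 + 1) ≤ 2 * ((m + 4) * (m + 4 + 1)) := by nlinarith only []
        calc t * ((m + 1 + 4) * (m + 1 + 4 + 1)) ≤ t * (2 * ((m + 4) * (m + 4 + 1))) := Nat.mul_le_mul_left _ h6
          _ = _ := by ring
      omega
  omega

theorem prod_le {q : ℕ} (n : ℕ) : (∏ i ∈ Finset.range n, (q ^ (i + 1) - 1)) ^ 2 ≤ q ^ (n * (n + 1)) := by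
  induction n with
  | zero => simp
  | succ n ih =>
    rw [Finset.prod_range_succ, mul_pow]
    have h1 : (n + 1) * (n + 1 + 1) = n * (n + 1) + (n + 1) * 2 := by ring
    rw [h1, pow_add q (n * (n + 1)), pow_mul q (n + 1) 2]
    exact Nat.mul_le_mul ih (Nat.pow_le_pow_left (Nat.sub_le _ _) 2)

theorem le_two_pow {q : ℕ} : q ≤ 2 ^ (q - 1) := by
  rcases Nat.eq_zero_or_pos q with rfl | h
  · simp
  obtain ⟨t, rfl⟩ : ∃ t, q = t + 1 := ⟨q - 1, by omega⟩
  rw [Nat.add_sub_cancel]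
  exact Nat.lt_two_pow_self

/-- the cross characteristic case -/
theorem cross_char {p f n r : ℕ} (hp : p.Prime) [hr : Fact r.Prime] (hrp : r ≠ p)
    (hF : Fintype.card F = p ^ f) (hn : 4 ≤ n) (hB : CodA.Big V)
    (hab : ∀ x ∈ V, ∀ y ∈ V, x * y = y * x) (hexp : ∀ x ∈ V, x ^ r = 1)
    (hC : Subgroup.centralizer (V : Set G) ≤ V)
    (e : G ⧸ V ≃* ProjectiveSpecialLinearGroup (Fin n) F) : False := by
  obtain ⟨c, hcinj, -⟩ := Lib.ElemAbGL.exists_injective_hom_mulAut V hab hC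
  have hf := CodF.exp_ne_zero hF
  obtain ⟨s, hs, hker⟩ := GpLn.Elem.exists_proj (α := Fin n) e (by simp only [_root_.Fintype.card_fin])
  have hVp : IsPGroup r V := fun v => ⟨1, by rw [pow_one]; exact Subtype.ext (hexp _ v.2)⟩
  obtain ⟨k, hk⟩ := IsPGroup.iff_card.1 hVp
  let _ : CommGroup V := { (inferInstance : Group V) with mul_comm := fun a b => Subtype.ext (hab _ a.2 _ b.2) }
  obtain ⟨ε⟩ := Lib.ElemAbGL.mulAut_equiv_GL (V := V) r k (fun a => Subtype.ext (hexp _ a.2)) hk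
  let ρ : _root_.Matrix.SpecialLinearGroup (Fin n) F →* GL (Fin k) (ZMod r) := (ε.toMonoidHom.comp c).comp s
  have hρ : ρ.ker ≤ Subgroup.center (_root_.Matrix.SpecialLinearGroup (Fin n) F) := by
    intro x hx
    rw [← hker, MonoidHom.mem_ker]
    rw [MonoidHom.mem_ker] at hx
    apply hcinj
    apply ε.injective
    rw [map_one, map_one]
    exact hx
  have hcharF := CodG.charP_of_card hp hF
  have h1 := S2392.result (F := F) rfl n (by omega) (K := ZMod r) (by
    rw [ringChar.eq (ZMod r) r, ringChar.eq F p]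
    exact hrp) ρ hρ
  -- `|V|² ∣ |L|`
  have h4 := (CodH.sq_dvd hB).trans (Subgroup.card_dvd_of_surjective s hs)
  rw [hk, ← pow_mul] at h4
  set q := Fintype.card F with hq
  have h2q : 2 ≤ q := Fintype.one_lt_card (α := F)
  have h5 := S0242.result (F := F) hq.symm n (by omega)
  rw [CodF.prod_gl] at h5
  have h6 : r ^ (k * 2) ∣ ∏ i ∈ Finset.range n, (q ^ (i + 1) - 1) := by
    have h7 : r ^ (k * 2) ∣ q ^ (n * (n - 1) / 2) * ∏ i ∈ Finset.range n, (q ^ (i + 1) - 1) := by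
      rw [← h5]
      exact h4.mul_left _
    refine Nat.Coprime.dvd_of_dvd_mul_left ?_ h7
    apply Nat.Coprime.pow_left
    apply Nat.Coprime.pow_right
    rw [hF]
    exact Nat.Coprime.pow_right _ ((Nat.coprime_primes hr.out hp).2 hrp)
  have hpos : 0 < ∏ i ∈ Finset.range n, (q ^ (i + 1) - 1) := by
    apply Finset.prod_pos
    intro i _
    have : 1 < q ^ (i + 1) := Nat.one_lt_pow (by omega) h2q
    omega
  have h7 := Nat.le_of_dvd hpos h6
  have h8 : (2 ^ (4 * k) : ℕ) ≤ 2 ^ ((q - 1) * (n * (n + 1))) := by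
    calc (2 ^ (4 * k) : ℕ) = (2 ^ (k * 2)) ^ 2 := by rw [← pow_mul]; congr 1; ring
      _ ≤ (r ^ (k * 2)) ^ 2 := Nat.pow_le_pow_left (Nat.pow_le_pow_left hr.out.two_le _) 2
      _ ≤ (∏ i ∈ Finset.range n, (q ^ (i + 1) - 1)) ^ 2 := Nat.pow_le_pow_left h7 2
      _ ≤ q ^ (n * (n + 1)) := prod_le n
      _ ≤ (2 ^ (q - 1)) ^ (n * (n + 1)) := Nat.pow_le_pow_left le_two_pow _
      _ = _ := by rw [← pow_mul]
  have h9 := (Nat.pow_le_pow_iff_right (by norm_num : 1 < 2)).1 h8
  have h10 := num_ge h2q hn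
  omega

end Cfsg.Agent.H78.CodI
end

private theorem dce_34ebcf540296 : _root_.True := by
  try have : _root_.True := by simp only [_root_.Cfsg.Agent.H78.CodG.hat.eq_1]
  try have : _root_.True := by simp only [_root_.Cfsg.Agent.H78.CodG.om3.eq_1]
  exact _root_.True.intro
end

-- part: H78/CodL
section
prune_inst 0xe010460032a200000000000040003c5282000000000b0000400000000d818c2300002620a210020011a000a44038000002000009401000000a000000411c00800000000001000000000000000000000000000000000000000000000000000000000000000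
set_option linter.all false
open scoped Cfsg.Agent.FastGrp

-- part: H78/CodJ
section
/-!
# Codegrees of `PSL_n(q)`: the central case
-/

set_option autoImplicit false

namespace Cfsg.Agent.H78.CodJ

open Cfsg Cfsg.Agent Cfsg.Agent.Characters Cfsg.Agent.H686.CharKit Cfsg.Agent.H677.CodMultiset Matrix

universe u v w

/-- A nonprincipal irreducible character of `L_n(q)` has degree at least `q^(n-1) - 1`. -/
theorem degree_ge {L : Type v} [Group L] [Finite L] [IsSimpleGroup L] {F : Type w} [Field F] [Fintype F]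
    {n : ℕ} (hn : 4 ≤ n) (e : L ≃* ProjectiveSpecialLinearGroup (Fin n) F) (ψ : IrrCharacter L)
    (hψ : ψ ≠ _root_.Cfsg.Agent.H677.CodMultiset.one L) : Fintype.card F ^ (n - 1) - 1 ≤ charDegree (ψ : L → ℂ) := by
  obtain ⟨s, hs, hker⟩ := GpLn.Elem.exists_proj (α := Fin n) e (by simp only [_root_.Fintype.card_fin])
  obtain ⟨d, ρ, -, hchar⟩ := ψ.2
  have hchar' : ∀ g, (ψ : L → ℂ) g = LinearMap.trace ℂ _ (ρ g) := fun g => by rw [← hchar]; rfl
  have hd : charDegree (ψ : L → ℂ) = d := by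
    have h1 := hchar' 1
    rw [map_one, LinearMap.trace_one, Module.finrank_fin_fun] at h1
    have h2 := charDegree_irr ψ
    rw [h1] at h2
    exact_mod_cast h2
  rw [hd]
  let ρ' : L →* GL (Fin d) ℂ :=
    (Matrix.GeneralLinearGroup.toLin (n := Fin d) (R := ℂ)).symm.toMonoidHom.comp ρ.asGroupHom
  refine S2392.result (F := F) rfl n (by omega) (K := ℂ) ?_ (ρ'.comp s) ?_
  · have h1 : ringChar ℂ = 0 := ringChar.eq_zero
    rw [h1]
    intro h2
    have h3 := CharP.ringChar_ne_zero_of_finite F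
    exact h3 h2.symm
  · intro x hx
    rw [← hker, MonoidHom.mem_ker]
    rw [MonoidHom.mem_ker, MonoidHom.comp_apply] at hx
    have h1 : ρ.asGroupHom (s x) = 1 := by
      apply (Matrix.GeneralLinearGroup.toLin (n := Fin d) (R := ℂ)).symm.injective
      rw [map_one]
      exact hx
    have h2 : ρ (s x) = 1 := by
      have h3 := congrArg Units.val h1
      rwa [Representation.asGroupHom_apply] at h3
    have h3 : s x ∈ chKer ψ := by
      rw [mem_chKer, hchar', hchar', h2, map_one ρ]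
    rw [chKer_eq_bot hψ, Subgroup.mem_bot] at h3
    exact h3

/-! ### an irreducible character of small degree -/

theorem exists_irr_le {G : Type u} [Group G] [Finite G] {V : Subgroup G} {K : Subgroup G} (μ : K →* ℂˣ)
    (hμ : ∃ v : K, (v : G) ∈ V ∧ μ v ≠ 1) :
    ∃ χ : IrrCharacter G, ¬ V ≤ chKer χ ∧ charDegree (χ : G → ℂ) ≤ K.index := by
  classical
  have := Core.finite_irr (G := G)
  have := Fintype.ofFinite (IrrCharacter G)
  have := Fintype.ofFinite G
  have := Fintype.ofFinite K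
  let θ : IrrCharacter K := ⟨_, Linear.isIrrCharacter_hom μ⟩
  have hθ1 : charDegree (θ : K → ℂ) = 1 := by
    unfold charDegree
    simp [θ]
  obtain ⟨c, hc, hc'⟩ := CharDeep.CliffordCorr.exists_nat_coeffs_indFun K
    (Core.isIrr_isCharacter θ.2)
  have h1 := congrFun hc 1
  rw [H678.Constit.indFun_one, Finset.sum_apply] at h1
  have h2 : ((K.index * charDegree (θ : K → ℂ) : ℕ) : ℂ) =
      ((∑ χ : IrrCharacter G, c χ * charDegree (χ : G → ℂ) : ℕ) : ℂ) := by
    push_cast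
    rw [charDegree_irr, h1]
    refine Finset.sum_congr rfl fun χ _ => ?_
    rw [charDegree_irr, Pi.smul_apply, smul_eq_mul]
  have h3 := Nat.cast_injective (R := ℂ) h2
  rw [hθ1, mul_one] at h3
  have h4 : ∑ χ : IrrCharacter G, c χ * charDegree (χ : G → ℂ) ≠ 0 := by
    rw [← h3]
    exact Subgroup.index_ne_zero_of_finite
  obtain ⟨χ, -, hne⟩ := Finset.exists_ne_zero_of_sum_ne_zero h4
  have hcχ : c χ ≠ 0 := fun h => hne (by rw [h, zero_mul])
  refine ⟨χ, ?_, ?_⟩
  · intro hχ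
    obtain ⟨v, hv, hne⟩ := hμ
    apply hne
    have h6 : classInner (fun k : K => (χ : G → ℂ) k) (θ : K → ℂ) ≠ 0 := by
      rw [← Core.classInner_conj_symm, hc' χ]
      simpa using hcχ
    have h7 : (θ : K → ℂ) v = (θ : K → ℂ) 1 :=
      OddOrderCharacters.PF9.GaloisClifford.ker_of_constituent
        (Clifford.isCharacter_restrict K (Core.isIrr_isCharacter χ.2)) θ.2 h6 (hχ hv)
    simp only [θ, map_one] at h7
    exact Units.ext h7
  · have h6 : c χ * charDegree (χ : G → ℂ) ≤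
        ∑ χ : IrrCharacter G, c χ * charDegree (χ : G → ℂ) :=
      Finset.single_le_sum (f := fun χ : IrrCharacter G => c χ * charDegree (χ : G → ℂ))
        (fun _ _ => Nat.zero_le _) (Finset.mem_univ χ)
    have h7 : charDegree (χ : G → ℂ) ≤ c χ * charDegree (χ : G → ℂ) :=
      Nat.le_mul_of_pos_left _ (Nat.pos_of_ne_zero hcχ)
    omega

/-! ### the stabiliser of a line -/

section Line

variable {F : Type w} [Field F] {α : Type*} [Fintype α] [DecidableEq α] (i₀ : α)

theorem coe_mul' (A B : _root_.Matrix.SpecialLinearGroup α F) : (A * B).1 = A.1 * B.1 := rfl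

theorem coe_one' : (1 : _root_.Matrix.SpecialLinearGroup α F).1 = 1 := rfl

theorem mul_aux {A B : _root_.Matrix.SpecialLinearGroup α F} {a b : Fˣ}
    (ha : A.1 *ᵥ Pi.single i₀ 1 = (a : F) • Pi.single i₀ 1) (hb : B.1 *ᵥ Pi.single i₀ 1 = (b : F) • Pi.single i₀ 1) :
    (A * B).1 *ᵥ Pi.single i₀ 1 = ((a * b : Fˣ) : F) • Pi.single i₀ 1 := by
  rw [coe_mul', ← Matrix.mulVec_mulVec, hb, Matrix.mulVec_smul, ha, smul_smul, Units.val_mul, mul_comm]

/-- the stabiliser of a coordinate line -/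
def P1 : Subgroup (_root_.Matrix.SpecialLinearGroup α F) where
  carrier := {A | ∃ a : Fˣ, A.1 *ᵥ Pi.single i₀ 1 = (a : F) • Pi.single i₀ 1}
  one_mem' := ⟨1, by rw [coe_one', Matrix.one_mulVec, Units.val_one, one_smul]⟩
  mul_mem' := by
    rintro A B ⟨a, ha⟩ ⟨b, hb⟩
    exact ⟨a * b, mul_aux i₀ ha hb⟩
  inv_mem' := by
    rintro A ⟨a, ha⟩
    refine ⟨a⁻¹, ?_⟩
    have h1 : (A⁻¹).1 *ᵥ (A.1 *ᵥ Pi.single i₀ 1) = Pi.single i₀ 1 := by
      rw [Matrix.mulVec_mulVec, ← coe_mul', inv_mul_cancel, coe_one',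
        Matrix.one_mulVec]
    rw [ha, Matrix.mulVec_smul] at h1
    have h2 := congrArg (fun v => ((a⁻¹ : Fˣ) : F) • v) h1
    simp only [smul_smul, Units.inv_mul, one_smul] at h2
    exact h2

omit [Fintype α] in
theorem single_ne : (Pi.single i₀ 1 : α → F) ≠ 0 := by
  intro h
  have := congrFun h i₀
  simp at this

/-- the eigenvalue -/
noncomputable def eig : (P1 i₀ : Subgroup (_root_.Matrix.SpecialLinearGroup α F)) →* Fˣ where
  toFun A := A.2.choose
  map_one' := by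
    have h := (1 : (P1 i₀ : Subgroup (_root_.Matrix.SpecialLinearGroup α F))).2.choose_spec
    apply Units.ext
    apply smul_left_injective F (single_ne (F := F) i₀)
    change _ • _ = _ • _
    rw [← h, Units.val_one, one_smul]
    change (1 : _root_.Matrix.SpecialLinearGroup α F).1 *ᵥ _ = _
    rw [coe_one', Matrix.one_mulVec]
  map_mul' A B := by
    have h := (A * B).2.choose_spec
    have hA := A.2.choose_spec
    have hB := B.2.choose_spec
    apply Units.ext
    apply smul_left_injective F (single_ne (F := F) i₀)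
    change _ • _ = _ • _
    rw [← h]
    exact mul_aux i₀ hA hB

theorem eig_spec (A : (P1 i₀ : Subgroup (_root_.Matrix.SpecialLinearGroup α F))) :
    A.1.1 *ᵥ Pi.single i₀ 1 = ((eig i₀ A : Fˣ) : F) • Pi.single i₀ 1 := A.2.choose_spec

theorem index_le [Fintype F] :
    (Fintype.card F - 1) * (P1 i₀ : Subgroup (_root_.Matrix.SpecialLinearGroup α F)).index ≤
      Fintype.card F ^ Fintype.card α - 1 := by
  classical
  let f : Fˣ × (_root_.Matrix.SpecialLinearGroup α F ⧸ (P1 i₀ : Subgroup (_root_.Matrix.SpecialLinearGroup α F))) → {w : α → F // w ≠ 0} :=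
    fun x => ⟨(x.1 : F) • (x.2.out.1 *ᵥ Pi.single i₀ 1), by
      intro h
      rw [smul_eq_zero] at h
      rcases h with h | h
      · exact x.1.ne_zero h
      · apply single_ne (F := F) i₀
        have h1 : (x.2.out⁻¹).1 *ᵥ (x.2.out.1 *ᵥ Pi.single i₀ 1) = (Pi.single i₀ 1 : α → F) := by
          rw [Matrix.mulVec_mulVec, ← coe_mul', inv_mul_cancel, coe_one', Matrix.one_mulVec]
        rw [← h1, h, Matrix.mulVec_zero]⟩
  have hf : Function.Injective f := by
    rintro ⟨a, x⟩ ⟨b, y⟩ h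
    have h1 : (a : F) • (x.out.1 *ᵥ Pi.single i₀ 1) = (b : F) • (y.out.1 *ᵥ Pi.single i₀ 1) :=
      congrArg Subtype.val h
    have h2 : (x.out⁻¹ * y.out).1 *ᵥ Pi.single i₀ 1 = ((b⁻¹ * a : Fˣ) : F) • (Pi.single i₀ 1 : α → F) := by
      rw [coe_mul', ← Matrix.mulVec_mulVec]
      have h3 : y.out.1 *ᵥ Pi.single i₀ 1 = ((b⁻¹ * a : Fˣ) : F) • (x.out.1 *ᵥ (Pi.single i₀ 1 : α → F)) := by
        rw [Units.val_mul, mul_smul, h1, smul_smul, Units.inv_mul, one_smul]
      rw [h3, Matrix.mulVec_smul, Matrix.mulVec_mulVec, ← coe_mul', inv_mul_cancel, coe_one', Matrix.one_mulVec]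
    have h3 : x = y := by
      rw [← QuotientGroup.out_eq' x, ← QuotientGroup.out_eq' y, QuotientGroup.eq]
      exact ⟨_, h2⟩
    subst h3
    rw [inv_mul_cancel, coe_one', Matrix.one_mulVec] at h2
    have h4 : (1 : F) • (Pi.single i₀ 1 : α → F) = ((b⁻¹ * a : Fˣ) : F) • (Pi.single i₀ 1 : α → F) := by
      rw [← h2, one_smul]
    have h5 := smul_left_injective F (single_ne (F := F) i₀) h4
    have h6 : b⁻¹ * a = 1 := Units.ext h5.symm
    rw [inv_mul_eq_one] at h6
    rw [h6]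
  have h1 := Nat.card_le_card_of_injective f hf
  rw [Nat.card_prod, Nat.card_eq_fintype_card (α := Fˣ), Fintype.card_units] at h1
  have h2 : Nat.card {w : α → F // w ≠ 0} = Fintype.card F ^ Fintype.card α - 1 := by
    rw [Nat.card_eq_fintype_card, Fintype.card_subtype_compl, Fintype.card_subtype_eq]
    simp only [_root_.Fintype.card_pi, _root_.Finset.prod_const, _root_.Finset.card_univ]
  rw [h2] at h1
  exact h1

end Line

theorem arith {q n k d i : ℕ} (hq : 3 ≤ q) (hn : 4 ≤ n) (hk : 2 ≤ k) (hd : q ^ (n - 1) - 1 ≤ d)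
    (hi : (q - 1) * i ≤ q ^ n - 1) (h : k * d ≤ i) : False := by
  obtain ⟨m, rfl⟩ : ∃ m, n = m + 1 := ⟨n - 1, by omega⟩
  rw [Nat.add_sub_cancel] at hd
  have h1 : q ^ 3 ≤ q ^ m := Nat.pow_le_pow_right (by omega) (by omega)
  have h2 : 3 * 3 * q ≤ q ^ 3 := by
    rw [pow_succ, pow_two]
    exact Nat.mul_le_mul_right _ (Nat.mul_le_mul hq hq)
  obtain ⟨t, rfl⟩ : ∃ t, q = t + 1 := ⟨q - 1, by omega⟩
  rw [Nat.add_sub_cancel] at hi
  have h3 : t * (2 * ((t + 1) ^ m - 1)) ≤ (t + 1) ^ (m + 1) - 1 := by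
    refine le_trans (Nat.mul_le_mul_left _ ?_) hi
    exact le_trans (Nat.mul_le_mul hk hd) h
  obtain ⟨x, hx⟩ : ∃ x, (t + 1) ^ m = x + 1 := ⟨(t + 1) ^ m - 1, by omega⟩
  rw [pow_succ, hx, Nat.add_sub_cancel] at h3
  have h4 : (x + 1) * (t + 1) - 1 = x * t + x + t := by
    have : (x + 1) * (t + 1) = x * t + x + t + 1 := by ring
    omega
  rw [h4] at h3
  have h5 : 2 * x ≤ t * x := Nat.mul_le_mul_right _ (by omega)
  have h6 : t * (2 * x) = 2 * (t * x) := by ring
  have h7 : x * t = t * x := mul_comm _ _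
  omega

/-- **the central case** -/
theorem central {G : Type u} [Group G] [Finite G] {V : Subgroup G} [V.Normal] {F : Type w} [Field F] [Fintype F]
    {n : ℕ} (hZ : V ≤ Subgroup.center G) (hV : V ≠ ⊥) (hperf : commutator G = ⊤) (hn : 4 ≤ n)
    (h42 : ¬ (n = 4 ∧ Fintype.card F = 2)) [IsSimpleGroup (G ⧸ V)]
    (e : G ⧸ V ≃* ProjectiveSpecialLinearGroup (Fin n) F)
    (hdeg : ∀ χ : IrrCharacter G, ¬ V ≤ chKer χ → ∃ ψ : IrrCharacter (G ⧸ V), ψ ≠ _root_.Cfsg.Agent.H677.CodMultiset.one (G ⧸ V) ∧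
      charDegree (χ : G → ℂ) = Nat.card V * charDegree (ψ : G ⧸ V → ℂ)) : False := by
  classical
  obtain ⟨s, hs, hker⟩ := GpLn.Elem.exists_proj (α := Fin n) e (by simp only [_root_.Fintype.card_fin])
  let i₀ : Fin n := ⟨0, by omega⟩
  have hOk : H60.MultA.Ok n (Nat.card F) := by
    refine ⟨by omega, fun h => by omega, ?_⟩
    rw [Nat.card_eq_fintype_card]
    simp only [Set.mem_insert_iff, Set.mem_singleton_iff, Prod.mk.injEq, not_or, not_and]
    exact ⟨fun h => by omega, fun h => by omega, fun h => by omega, fun h => by omega, fun h h' => h42 ⟨h, h'⟩⟩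
  have hP : Group.IsPerfect (_root_.Matrix.SpecialLinearGroup (Fin n) F) := ⟨H60.MultA.perfect_SL hOk⟩
  have hξ : (QuotientGroup.mk' V).ker ≤ Subgroup.center G := by rwa [QuotientGroup.ker_mk']
  obtain ⟨η, hη⟩ := H487.exists_lift_of_trivial hP (H60.MultA.hasTrivial_SL hOk) s
    (QuotientGroup.mk'_surjective V) hξ
  have hη' : ∀ x, ((η x : G) : G ⧸ V) = s x := fun x => DFunLike.congr_fun hη x
  -- `η` is surjective
  have hηs : Function.Surjective η := by
    have h1 := H487.commutator_eq_map_of_central hξ (φ := η) (by rw [hη]; exact hs)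
    rw [hperf] at h1
    intro g
    have h2 : g ∈ (⊤ : Subgroup G) := trivial
    rw [h1] at h2
    obtain ⟨x, -, hx⟩ := h2
    exact ⟨x, hx⟩
  -- a central element
  obtain ⟨v, hv1⟩ := Subgroup.ne_bot_iff_exists_ne_one.1 hV
  obtain ⟨z, hz⟩ := hηs v
  have hscal : ∀ y : _root_.Matrix.SpecialLinearGroup (Fin n) F, s y = 1 →
      ∃ a : Fˣ, y.1 *ᵥ Pi.single i₀ 1 = (a : F) • Pi.single i₀ 1 ∧ y.1 = Matrix.scalar (Fin n) (a : F) := by
    intro y hy
    have h1 : y ∈ s.ker := hy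
    rw [hker, Matrix.SpecialLinearGroup.mem_center_iff] at h1
    obtain ⟨r, hr, hry⟩ := h1
    have hr0 : r ≠ 0 := by
      rintro rfl
      rw [Fintype.card_fin, zero_pow (by omega)] at hr
      exact zero_ne_one hr
    have hry' : y.1 = Matrix.scalar (Fin n) r := hry.symm
    refine ⟨Units.mk0 r hr0, ?_, hry'⟩
    rw [hry', Units.val_mk0, Matrix.scalar_apply, ← Matrix.smul_one_eq_diagonal, Matrix.smul_mulVec, Matrix.one_mulVec]
  have hsz : s z = 1 := by
    rw [← hη', hz]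
    exact (QuotientGroup.eq_one_iff _).2 v.2
  obtain ⟨a, haz, hza⟩ := hscal z hsz
  have hzP : z ∈ P1 (F := F) i₀ := ⟨a, haz⟩
  set K : Subgroup G := (P1 (F := F) i₀).map η with hK
  -- the linear character
  let ηP : (P1 (F := F) i₀) →* K := η.subgroupMap (P1 (F := F) i₀)
  have hηP : Function.Surjective ηP := η.subgroupMap_surjective _
  let D : Subgroup Fˣ := ηP.ker.map (eig i₀)
  let g₀ : (P1 (F := F) i₀) →* (Fˣ ⧸ D) := (QuotientGroup.mk' D).comp (eig i₀)
  have hg₀ : ηP.ker ≤ g₀.ker := by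
    intro x hx
    rw [MonoidHom.mem_ker]
    exact (QuotientGroup.eq_one_iff _).2 ⟨x, hx, rfl⟩
  let μ₀ : K →* (Fˣ ⧸ D) := MonoidHom.liftOfSurjective ηP hηP ⟨g₀, hg₀⟩
  have hμ₀ : ∀ x, μ₀ (ηP x) = g₀ x := fun x => MonoidHom.liftOfRightInverse_comp_apply _ _ _ ⟨g₀, hg₀⟩ x
  have hne : μ₀ (ηP ⟨z, hzP⟩) ≠ 1 := by
    rw [hμ₀]
    intro h
    have h1 : eig i₀ ⟨z, hzP⟩ ∈ D := (QuotientGroup.eq_one_iff _).1 h
    obtain ⟨y, hy, hyz⟩ := h1
    have hy1 : η y = 1 := congrArg Subtype.val hy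
    have hsy : s y = 1 := by
      rw [← hη', hy1]
      rfl
    obtain ⟨b, hby, hyb⟩ := hscal y hsy
    have h2 := eig_spec i₀ y
    have h3 := eig_spec i₀ ⟨z, hzP⟩
    have h4 : (b : F) = ((eig i₀ y : Fˣ) : F) :=
      smul_left_injective F (single_ne (F := F) i₀) (show (b : F) • _ = _ • _ by rw [← hby, h2])
    have h5 : (a : F) = ((eig i₀ ⟨z, hzP⟩ : Fˣ) : F) :=
      smul_left_injective F (single_ne (F := F) i₀) (show (a : F) • _ = _ • _ by rw [← haz, h3])
    have h6 : (y : _root_.Matrix.SpecialLinearGroup (Fin n) F) = z := by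
      apply Subtype.ext
      rw [hyb, hza, h4, h5, hyz]
    apply hv1
    apply Subtype.ext
    rw [← hz, ← h6, hy1]
    rfl
  obtain ⟨κ, hκ⟩ := CommGroup.exists_apply_ne_one_of_hasEnoughRootsOfUnity (Fˣ ⧸ D) ℂ hne
  obtain ⟨χ, hχ, hχd⟩ := exists_irr_le (V := V) (κ.comp μ₀) ⟨ηP ⟨z, hzP⟩, by
    change η z ∈ V
    rw [hz]
    exact v.2, hκ⟩
  obtain ⟨ψ, hψ, hd⟩ := hdeg χ hχ
  have h1 := degree_ge hn e ψ hψ
  have h2 : K.index ≤ (P1 (F := F) i₀).index := Nat.le_of_dvd (Nat.pos_of_ne_zero Subgroup.index_ne_zero_of_finite)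
    (Subgroup.index_map_dvd _ hηs)
  have h3 := index_le (F := F) i₀
  rw [Fintype.card_fin] at h3
  have hV2 : 2 ≤ Nat.card V := (Subgroup.one_lt_card_iff_ne_bot _).2 hV
  have hq3 : 3 ≤ Fintype.card F := by
    by_contra hlt
    have hq2 : 1 < Fintype.card F := Fintype.one_lt_card
    have hu : Fintype.card Fˣ = 1 := by
      rw [Fintype.card_units]
      omega
    have : Subsingleton Fˣ := Fintype.card_le_one_iff_subsingleton.1 hu.le
    apply hne
    obtain ⟨y, hy⟩ := QuotientGroup.mk_surjective (μ₀ (ηP ⟨z, hzP⟩))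
    rw [← hy, Subsingleton.elim y 1]
    rfl
  exact arith hq3 hn hV2 h1 h3 (by rw [← hd]; exact hχd.trans h2)

end Cfsg.Agent.H78.CodJ
end

-- part: H78/CodK
section
/-!
# Codegrees: simple groups

`S`, `L` simple, every codegree of `S` a codegree of `L`.  Then `|L| = k |S|` and `k χ(1)` is a degree of `L` for
every nonprincipal irreducible character `χ` of `S`.
-/

set_option autoImplicit false

namespace Cfsg.Agent.H78.CodK

open Cfsg Cfsg.Agent Cfsg.Agent.Characters Cfsg.Agent.H686.CharKit Cfsg.Agent.H677.CodMultiset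
  Cfsg.Agent.H677.CodPrime Cfsg.Agent.H78.CodB Matrix

open scoped commutatorElement

universe u v w

set_option linter.unusedSectionVars false

section Simple

variable {S : Type u} [Group S] [Finite S] [IsSimpleGroup S] {L : Type v} [Group L] [Finite L] [IsSimpleGroup L]

/-- the multiplier -/
theorem exists_mult (h : Sub S L) : ∃ k, 0 < k ∧ Nat.card L = k * Nat.card S ∧
    ∀ χ : IrrCharacter S, χ ≠ _root_.Cfsg.Agent.H677.CodMultiset.one S → ∃ ψ : IrrCharacter L, ψ ≠ _root_.Cfsg.Agent.H677.CodMultiset.one L ∧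
      charDegree (ψ : L → ℂ) = k * charDegree (χ : S → ℂ) := by
  obtain ⟨k, hk⟩ := card_dvd h
  rw [mul_comm] at hk
  have hk0 : 0 < k := by
    rcases Nat.eq_zero_or_pos k with rfl | h0
    · rw [zero_mul] at hk
      exact absurd hk Nat.card_pos.ne'
    · exact h0
  refine ⟨k, hk0, hk, fun χ hχ => ?_⟩
  obtain ⟨ψ, hψ⟩ := h χ
  have hψ1 : ψ ≠ _root_.Cfsg.Agent.H677.CodMultiset.one L := by
    rintro rfl
    rw [cod_one] at hψ
    exact (one_lt_cod hχ).ne' hψ
  refine ⟨ψ, hψ1, ?_⟩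
  have h1 := cod_mul hχ
  have h2 := cod_mul hψ1
  have h3 : 0 < cod χ := lt_trans one_pos (one_lt_cod hχ)
  rw [← hψ, hk, ← h1] at h2
  apply Nat.eq_of_mul_eq_mul_left h3
  rw [h2]
  ring

theorem mult_sq_lt {k : ℕ} (hk : Nat.card L = k * Nat.card S)
    (h : ∀ χ : IrrCharacter S, χ ≠ _root_.Cfsg.Agent.H677.CodMultiset.one S → ∃ ψ : IrrCharacter L, ψ ≠ _root_.Cfsg.Agent.H677.CodMultiset.one L ∧
      charDegree (ψ : L → ℂ) = k * charDegree (χ : S → ℂ)) (χ : IrrCharacter S) (hχ : χ ≠ _root_.Cfsg.Agent.H677.CodMultiset.one S) :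
    k * charDegree (χ : S → ℂ) ^ 2 < Nat.card S := by
  obtain ⟨ψ, -, hψ⟩ := h χ hχ
  have h1 := charDegree_sq_lt ψ
  rw [hψ, hk, mul_pow, pow_two k, mul_assoc] at h1
  exact Nat.lt_of_mul_lt_mul_left h1

/-- nonprincipal characters of a nonabelian simple group are not linear -/
theorem two_le (hna : ¬ ∀ a b : S, a * b = b * a) (χ : IrrCharacter S) (hχ : χ ≠ _root_.Cfsg.Agent.H677.CodMultiset.one S) :
    2 ≤ charDegree (χ : S → ℂ) := by
  by_contra hlt
  have hpos := charDegree_pos χ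
  have h1 : charDegree (χ : S → ℂ) = 1 := by omega
  rw [charDegree_eq_one_iff] at h1
  obtain ⟨f, hf⟩ := Linear.exists_hom_of_isIrrCharacter χ.2 h1
  apply hna
  intro a b
  have h2 := chKer_eq_bot hχ
  have h3 : ⁅a, b⁆ ∈ chKer χ := by
    rw [mem_chKer, hf]
    simp only [commutatorElement_def, _root_.map_mul, _root_.map_inv, _root_.mul_inv_cancel_comm, _root_.mul_inv_cancel, _root_.Units.val_one, _root_.map_one]
  rw [h2, Subgroup.mem_bot, commutatorElement_eq_one_iff_mul_comm] at h3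
  exact h3

/-- the multiplier is less than the number of classes -/
theorem mult_lt {k : ℕ} (hk : Nat.card L = k * Nat.card S)
    (h : ∀ χ : IrrCharacter S, χ ≠ _root_.Cfsg.Agent.H677.CodMultiset.one S → ∃ ψ : IrrCharacter L, ψ ≠ _root_.Cfsg.Agent.H677.CodMultiset.one L ∧
      charDegree (ψ : L → ℂ) = k * charDegree (χ : S → ℂ)) : k < Nat.card (ConjClasses S) := by
  classical
  have := Core.finite_irr (G := S)
  let _ := Fintype.ofFinite (IrrCharacter S)
  rw [← Core.card_irr, Nat.card_eq_fintype_card]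
  have h1 := sum_sq_ne (G := S)
  have h2 : ∑ χ ∈ Finset.univ.erase (_root_.Cfsg.Agent.H677.CodMultiset.one S), k * charDegree (χ : S → ℂ) ^ 2 ≤
      (Finset.univ.erase (_root_.Cfsg.Agent.H677.CodMultiset.one S)).card • (Nat.card S - 1) := by
    apply Finset.sum_le_card_nsmul
    intro χ hχ
    have := mult_sq_lt hk h χ (Finset.ne_of_mem_erase hχ)
    omega
  rw [← Finset.mul_sum, Finset.card_erase_of_mem (Finset.mem_univ _), Finset.card_univ, smul_eq_mul] at h2
  have hS : 1 < Nat.card S := Finite.one_lt_card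
  by_contra hlt
  rw [not_lt] at hlt
  have h3 : ∑ χ ∈ Finset.univ.erase (_root_.Cfsg.Agent.H677.CodMultiset.one S), charDegree (χ : S → ℂ) ^ 2 = Nat.card S - 1 := by omega
  rw [h3] at h2
  have h4 := Nat.le_of_mul_le_mul_right h2 (by omega)
  have h5 : 0 < Fintype.card (IrrCharacter S) := Fintype.card_pos_iff.2 ⟨_root_.Cfsg.Agent.H677.CodMultiset.one S⟩
  omega

/-! ### characters of defect zero in the defining characteristic -/

variable {F : Type w} [Field F] [Fintype F]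

omit [IsSimpleGroup L] in
theorem defect_zero {n p f : ℕ} (hp : p.Prime) (hF : Fintype.card F = p ^ f) (hn : 4 ≤ n)
    (e : L ≃* ProjectiveSpecialLinearGroup (Fin n) F) (ψ : IrrCharacter L)
    (h : ¬ p ∣ Nat.card L / charDegree (ψ : L → ℂ)) :
    charDegree (ψ : L → ℂ) = p ^ (Nat.card L).factorization p := by
  have := Fact.mk hp
  have hchar : CharP F p := CodG.charP_of_card hp hF
  obtain ⟨s, hs, hker⟩ := GpLn.Elem.exists_proj (α := Fin n) e (by simp only [_root_.Fintype.card_fin])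
  obtain ⟨M, hM⟩ := Blocks.ExistsModular.exists_isPModular hp
  let φ : IrrCharacter (_root_.Matrix.SpecialLinearGroup (Fin n) F) := ⟨(ψ : L → ℂ) ∘ s, Core.isIrr_comp s hs ψ.2⟩
  have hφ : charDegree (φ : _root_.Matrix.SpecialLinearGroup (Fin n) F → ℂ) = charDegree (ψ : L → ℂ) := by
    unfold charDegree
    simp [φ]
  have hcard : Nat.card (_root_.Matrix.SpecialLinearGroup (Fin n) F) =
      Nat.card L * Nat.card (Subgroup.center (_root_.Matrix.SpecialLinearGroup (Fin n) F)) := by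
    rw [← hker, Subgroup.card_eq_card_quotient_mul_card_subgroup s.ker]
    congr 1
    exact Nat.card_congr (QuotientGroup.quotientKerEquivOfSurjective s hs).toEquiv
  have hZ := H615.SLSteinberg.not_dvd_card_center (F := F) (n := n) (by omega) p
  obtain ⟨χ, h1, h2, -⟩ := H615.SLSteinberg.exists_steinberg (F := F) (n := n) (by omega) p
  have h3 : ¬ p ∣ Nat.card (_root_.Matrix.SpecialLinearGroup (Fin n) F) / charDegree (φ : _root_.Matrix.SpecialLinearGroup (Fin n) F → ℂ) := by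
    rw [hφ, hcard, ← Nat.div_mul_right_comm (charDegree_dvd_card ψ), hp.dvd_mul]
    exact not_or.2 ⟨h, hZ⟩
  have h4 := H615.SLSteinberg.defect_zero_unique p M hM φ χ h3 h2
  have h5 : (Nat.card (_root_.Matrix.SpecialLinearGroup (Fin n) F)).factorization p = (Nat.card L).factorization p := by
    rw [hcard, Nat.factorization_mul Nat.card_pos.ne' Nat.card_pos.ne', Finsupp.add_apply,
      Nat.factorization_eq_zero_of_not_dvd hZ, add_zero]
  rw [← hφ, h4, ← h5]
  exact Blocks.Basic.charDegree_of_eq h1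

theorem mult_eq {n p f : ℕ} (hp : p.Prime) (hF : Fintype.card F = p ^ f) (hn : 4 ≤ n)
    (e : L ≃* ProjectiveSpecialLinearGroup (Fin n) F) {k : ℕ} (hk0 : 0 < k) (hk : Nat.card L = k * Nat.card S)
    (h : ∀ χ : IrrCharacter S, χ ≠ _root_.Cfsg.Agent.H677.CodMultiset.one S → ∃ ψ : IrrCharacter L, ψ ≠ _root_.Cfsg.Agent.H677.CodMultiset.one L ∧
      charDegree (ψ : L → ℂ) = k * charDegree (χ : S → ℂ)) (θ : IrrCharacter S) (hθ1 : θ ≠ _root_.Cfsg.Agent.H677.CodMultiset.one S)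
    (hθ : ¬ p ∣ Nat.card S / charDegree (θ : S → ℂ)) :
    k * charDegree (θ : S → ℂ) = p ^ (Nat.card L).factorization p := by
  obtain ⟨ψ, -, hψ⟩ := h θ hθ1
  rw [← hψ]
  refine defect_zero hp hF hn e ψ ?_
  rw [hψ, hk, Nat.mul_div_mul_left _ _ hk0]
  exact hθ

/-- the characteristic divides `|S|` -/
theorem char_dvd {n p f : ℕ} (hp : p.Prime) (hF : Fintype.card F = p ^ f) (hn : 4 ≤ n)
    (e : L ≃* ProjectiveSpecialLinearGroup (Fin n) F) (hna : ¬ ∀ a b : S, a * b = b * a) {k : ℕ} (hk0 : 0 < k)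
    (hk : Nat.card L = k * Nat.card S)
    (h : ∀ χ : IrrCharacter S, χ ≠ _root_.Cfsg.Agent.H677.CodMultiset.one S → ∃ ψ : IrrCharacter L, ψ ≠ _root_.Cfsg.Agent.H677.CodMultiset.one L ∧
      charDegree (ψ : L → ℂ) = k * charDegree (χ : S → ℂ)) : p ∣ Nat.card S := by
  by_contra hpS
  have h1 : ∀ χ : IrrCharacter S, χ ≠ _root_.Cfsg.Agent.H677.CodMultiset.one S → k * charDegree (χ : S → ℂ) = p ^ (Nat.card L).factorization p :=
    fun χ hχ => mult_eq hp hF hn e hk0 hk h χ hχ fun h2 =>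
      hpS (h2.trans (Nat.div_dvd_of_dvd (charDegree_dvd_card χ)))
  obtain ⟨χ, hχ⟩ := exists_ne_one (L := S)
  have h2 := two_le hna χ hχ
  obtain ⟨r, hr, hrd⟩ := Nat.exists_prime_and_dvd (show charDegree (χ : S → ℂ) ≠ 1 by omega)
  obtain ⟨χ', hχ', h3⟩ := exists_not_dvd (G := S) hr (hrd.trans (charDegree_dvd_card χ))
  apply h3
  have h4 : charDegree (χ' : S → ℂ) = charDegree (χ : S → ℂ) := by
    apply Nat.eq_of_mul_eq_mul_left hk0
    rw [h1 χ hχ, h1 χ' hχ']
  rw [h4]
  exact hrd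

/-- the multiplier is a power of `p` if `S` has a character of degree `|S|_p` -/
theorem mult_pow {n p f : ℕ} (hp : p.Prime) (hF : Fintype.card F = p ^ f) (hn : 4 ≤ n)
    (e : L ≃* ProjectiveSpecialLinearGroup (Fin n) F) {k : ℕ} (hk0 : 0 < k)
    (hk : Nat.card L = k * Nat.card S)
    (h : ∀ χ : IrrCharacter S, χ ≠ _root_.Cfsg.Agent.H677.CodMultiset.one S → ∃ ψ : IrrCharacter L, ψ ≠ _root_.Cfsg.Agent.H677.CodMultiset.one L ∧
      charDegree (ψ : L → ℂ) = k * charDegree (χ : S → ℂ)) (θ : IrrCharacter S) (hθ1 : θ ≠ _root_.Cfsg.Agent.H677.CodMultiset.one S)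
    (hθ : charDegree (θ : S → ℂ) = p ^ (Nat.card S).factorization p) : ∃ a, k = p ^ a := by
  have h1 := mult_eq hp hF hn e hk0 hk h θ hθ1 (by
    rw [hθ]
    exact Nat.not_dvd_ordCompl hp Nat.card_pos.ne')
  obtain ⟨a, -, ha⟩ := (Nat.dvd_prime_pow hp).1 (Dvd.intro _ h1)
  exact ⟨a, ha⟩

/-- a character of `S` of degree `|S|_r > |S|^(1/3)` -/
theorem lt_four {k : ℕ} (hk : Nat.card L = k * Nat.card S)
    (h : ∀ χ : IrrCharacter S, χ ≠ _root_.Cfsg.Agent.H677.CodMultiset.one S → ∃ ψ : IrrCharacter L, ψ ≠ _root_.Cfsg.Agent.H677.CodMultiset.one L ∧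
      charDegree (ψ : L → ℂ) = k * charDegree (χ : S → ℂ)) (θ : IrrCharacter S) (hθ1 : θ ≠ _root_.Cfsg.Agent.H677.CodMultiset.one S)
    {P : ℕ} (hθ : charDegree (θ : S → ℂ) = P) (hlt : Nat.card S < P ^ 3) :
    k < P ∧ Nat.card L < P ^ 4 := by
  have h1 := mult_sq_lt hk h θ hθ1
  rw [hθ] at h1
  have h2 : k * P ^ 2 < P * P ^ 2 := by
    have : P * P ^ 2 = P ^ 3 := by ring
    omega
  have h3 : k < P := Nat.lt_of_mul_lt_mul_right h2
  refine ⟨h3, ?_⟩
  rw [hk]
  calc k * Nat.card S < P * P ^ 3 := Nat.mul_lt_mul_of_lt_of_lt h3 hlt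
    _ = P ^ 4 := by ring

end Simple

end Cfsg.Agent.H78.CodK
end

-- part: H82/SporNum
section
/-!
# S3538, T4 (task 1796 of helper78): `|L_n(q)| = k |S|`, `S` sporadic or the Tits group, `4 k < |S|`
-/

set_option autoImplicit false

namespace Cfsg.Agent.H82.SporNum

open Cfsg Cfsg.Agent Cfsg.Agent.H902 Finset

/-- `∏_{i < k} (q ^ (i + 2) - 1)` -/
def numL : ℕ → ℕ → ℕ
  | 0, _ => 1
  | k + 1, q => numL k q * (q ^ (k + 2) - 1)

theorem numL_eq (k q : ℕ) : numL k q = ∏ i ∈ range k, (q ^ (i + 2) - 1) := by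
  induction k with
  | zero => rfl
  | succ k ih => rw [numL, ih, prod_range_succ]

/-- the order of `L_n(q)` -/
def ordL (n q : ℕ) : ℕ := q ^ (n * (n - 1) / 2) * numL (n - 1) q / Nat.gcd n (q - 1)

theorem ordL_eq {n p f M : ℕ} (h : Art.Real (.L n) p f M) : ordL n (p ^ f) = M := by
  have h1 := Art.val_eq h
  rw [← h1]
  unfold ordL Art.val
  rw [numL_eq]
  rfl

/-- the primes -/
def prs : List ℕ := [2, 3, 5, 7, 11, 13, 17, 19, 23, 29, 31, 37, 41, 43, 47, 59, 67, 71]

/-- the pairs `(n, f)` -/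
def pairs : List (ℕ × ℕ) :=
  (List.range 28).flatMap fun n => ((List.range 60).filter fun f =>
    Nat.ble 4 n && Nat.ble 1 f && Nat.ble (f * (n * (n - 1) / 2)) 358).map fun f => (n, f)

/-- the check for one group and one prime -/
def chk (N p : ℕ) : Bool :=
  pairs.all fun y => Nat.ble (N ^ 2) (4 * p ^ (y.2 * (y.1 * (y.1 - 1) / 2))) ||
    (let M := ordL y.1 (p ^ y.2)
     !(Nat.beq (M % N) 0) || Nat.ble (N ^ 2) (4 * M) ||
      (Nat.beq N 604800 && Nat.beq (M / N) 1632 && Nat.beq y.1 4 && Nat.beq (p ^ y.2) 4))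

set_option maxRecDepth 100000 in
theorem chk_all : (OrdDiv.spor.all fun x => prs.all fun p => !(Nat.beq (x.2 % p) 0) || chk x.2 p) = true := by
  decide +kernel

theorem mem_prs {x : OrdDiv.Grp × ℕ} (hx : x ∈ OrdDiv.spor) {p : ℕ} (hp : p.Prime) (h : p ∣ x.2) : p ∈ prs := by
  have h1 : ∀ x ∈ OrdDiv.spor, x.2 ∣ (prs.map fun l => l ^ 50).prod := by decide +kernel
  have h2 := h.trans (h1 x hx)
  rw [Prime.dvd_prod_iff hp.prime] at h2
  obtain ⟨a, ha, h3⟩ := h2
  obtain ⟨l, hl, rfl⟩ := List.mem_map.1 ha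
  have h4 : ∀ l ∈ prs, l.Prime := by
    intro l hl
    simp only [prs, List.mem_cons, List.not_mem_nil, or_false] at hl
    rcases hl with rfl | rfl | rfl | rfl | rfl | rfl | rfl | rfl | rfl | rfl | rfl | rfl | rfl | rfl | rfl | rfl | rfl |
      rfl <;> norm_num
  rw [(Nat.prime_dvd_prime_iff_eq hp (h4 l hl)).1 (hp.dvd_of_dvd_pow h3)]
  exact hl

theorem mem_pairs {n f : ℕ} (hn : 4 ≤ n) (hf : 1 ≤ f) (h : f * (n * (n - 1) / 2) ≤ 358) : (n, f) ∈ pairs := by
  have h6 : 6 ≤ n * (n - 1) / 2 := by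
    rw [Nat.le_div_iff_mul_le (by norm_num)]
    calc 6 * 2 = 4 * 3 := by norm_num
      _ ≤ n * (n - 1) := Nat.mul_le_mul hn (by omega)
  have hf60 : f < 60 := by
    by_contra hcon
    have : 60 * 6 ≤ f * (n * (n - 1) / 2) := Nat.mul_le_mul (by omega) h6
    omega
  have hn28 : n < 28 := by
    by_contra hcon
    have h7 : 378 ≤ n * (n - 1) / 2 := by
      rw [Nat.le_div_iff_mul_le (by norm_num)]
      calc 378 * 2 = 28 * 27 := by norm_num
        _ ≤ n * (n - 1) := Nat.mul_le_mul (by omega) (by omega)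
    have : 1 * (n * (n - 1) / 2) ≤ f * (n * (n - 1) / 2) := Nat.mul_le_mul_right _ hf
    omega
  unfold pairs
  rw [List.mem_flatMap]
  refine ⟨n, List.mem_range.2 hn28, List.mem_map.2 ⟨f, List.mem_filter.2 ⟨List.mem_range.2 hf60, ?_⟩, rfl⟩⟩
  rw [Bool.and_eq_true, Bool.and_eq_true, Nat.ble_eq, Nat.ble_eq, Nat.ble_eq]
  exact ⟨⟨hn, hf⟩, h⟩

/-- **T4.** -/
theorem spor_num {n p f M k : ℕ} {x : OrdDiv.Grp × ℕ} (hx : x ∈ OrdDiv.spor) (hn : 4 ≤ n)
    (h : Art.Real (.L n) p f M) (hM : M = k * x.2) (hk : 4 * k < x.2) (hp : p ∣ x.2) :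
    x.1 = .j2 ∧ k = 1632 ∧ n = 4 ∧ p ^ f = 4 := by
  have hx0 : 0 < x.2 := by omega
  have hMN : 4 * M < x.2 ^ 2 := by
    rw [hM, pow_two, ← mul_assoc]
    exact (Nat.mul_lt_mul_right hx0).2 hk
  have hM0 : M ≠ 0 := by
    intro h0
    have h1 := h.eq
    rw [h0, mul_zero] at h1
    have h2 : 0 < (p ^ f) ^ Art.NN (.L n) := pow_pos (pow_pos h.hp.pos _) _
    have h3 : 0 < Art.num (.L n) (p ^ f) := by
      refine Finset.prod_pos fun i _ => ?_
      have h4 : 2 ≤ p ^ f := h.hp.two_le.trans (Nat.le_self_pow (by have := h.hf; omega) p)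
      have h5 : 1 < (p ^ f) ^ (i + 2) := Nat.one_lt_pow (by omega) h4
      omega
    exact absurd h1 (Nat.mul_pos h2 h3).ne
  have hv : p ^ (f * (n * (n - 1) / 2)) ≤ M := by
    have h1 := h.P_self
    rw [Art.P] at h1
    have h2 : p ^ M.factorization p ∣ M := Nat.ordProj_dvd M p
    rw [h1] at h2
    rw [pow_mul]
    exact Nat.le_of_dvd (Nat.pos_of_ne_zero hM0) h2
  have hbig : ∀ x ∈ OrdDiv.spor, x.2 ^ 2 ≤ 4 * 2 ^ 358 := by decide +kernel
  have hv2 : f * (n * (n - 1) / 2) ≤ 358 := by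
    by_contra hcon
    have h1 : 2 ^ 358 ≤ p ^ (f * (n * (n - 1) / 2)) :=
      (Nat.pow_le_pow_right (by norm_num) (not_le.1 hcon).le).trans (Nat.pow_le_pow_left h.hp.two_le _)
    have h2 := hbig x hx
    generalize 2 ^ 358 = Z at h1 h2
    omega
  have h1 := chk_all
  rw [List.all_eq_true] at h1
  have h2 := h1 x hx
  rw [List.all_eq_true] at h2
  have h3 := h2 p (mem_prs hx h.hp hp)
  have e1 : Nat.beq (x.2 % p) 0 = true := by rw [Nat.mod_eq_zero_of_dvd hp]; rfl
  rw [e1, Bool.not_true, Bool.false_or, chk, List.all_eq_true] at h3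
  have h4 := h3 (n, f) (mem_pairs hn h.hf hv2)
  simp only [Bool.or_eq_true, Bool.and_eq_true, Nat.ble_eq, Bool.not_eq_true',
    ordL_eq h] at h4
  rcases h4 with h4 | (h4 | h4) | h4
  · omega
  · exfalso
    have : Nat.beq (M % x.2) 0 = true := by
      rw [hM, Nat.mul_mod_left]; rfl
    rw [this] at h4
    exact absurd h4 (by simp)
  · omega
  · obtain ⟨⟨⟨h5, h6⟩, h7⟩, h8⟩ := h4
    replace h5 := Nat.eq_of_beq_eq_true h5
    replace h6 := Nat.eq_of_beq_eq_true h6
    replace h7 := Nat.eq_of_beq_eq_true h7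
    replace h8 := Nat.eq_of_beq_eq_true h8
    have h9 : ∀ x ∈ OrdDiv.spor, x.2 = 604800 → x.1 = .j2 := by decide +kernel
    refine ⟨h9 x hx h5, ?_, h7, h8⟩
    rw [← h6, hM, Nat.mul_div_cancel _ hx0]

end Cfsg.Agent.H82.SporNum
end

-- part: H78/CodL
section
/-!
# Codegrees: simple groups whose codegrees are codegrees of `L_n(q)`
-/

set_option autoImplicit false

namespace Cfsg.Agent.H78.CodL

open Cfsg Cfsg.Agent Cfsg.Agent.Characters Cfsg.Agent.H686.CharKit Cfsg.Agent.H677.CodMultiset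
  Cfsg.Agent.H677.CodPrime Cfsg.Agent.H78.CodB Matrix Cfsg.Agent.H902 Cfsg.Agent.H902.Names

universe u v w

/-! ### names -/

theorem charP_pow {F : Type} [Field F] [Fintype F] {l f k : ℕ} (hl : l.Prime)
    (hF : Fintype.card F = (l ^ f) ^ k) : CharP F l :=
  CodG.charP_of_card (f := f * k) hl (by rw [pow_mul]; exact hF)

/-- a named group of Lie type is a group of Lie type in the characteristic `l` (copied from `H280.SPCross`) -/
theorem lieChar {Y : Type u} [Group Y] {g : OrdDiv.Grp} {S : Art.Sh} {l f : ℕ} (hg : IsLie g S l f)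
    (h : OrdDiv.Real g Y) (hr : Art.Real S l f (Nat.card Y)) : IsLieTypeChar l Y := by
  obtain ⟨hl, hf, hok, -⟩ := hr
  have hpp : IsPrimePow (l ^ f) := hl.isPrimePow.pow (by omega)
  cases hg with
  | psl n l f =>
    obtain ⟨F, iF, iT, hF, e⟩ := h
    exact Or.inl ⟨F, iF, iT, CodG.charP_of_card hl hF, n, hok.1, by rw [hF]; exact hok.2, e⟩
  | psp n l f =>
    obtain ⟨F, iF, iT, hF, e⟩ := h
    exact Or.inr (Or.inl ⟨F, iF, iT, CodG.charP_of_card hl hF, n, hok.1, by rw [hF]; exact hok.2, e⟩)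
  | psu n l f =>
    obtain ⟨F, iF, iT, hF, e⟩ := h
    exact Or.inr (Or.inr (Or.inl ⟨F, iF, iT, charP_pow hl hF, n, l ^ f, hF, hok.1, fun h => by
      have := hok.2 h.1
      omega, e⟩))
  | oodd n l f hn ho =>
    obtain ⟨F, iF, iT, hF, e⟩ := h
    exact Or.inr (Or.inr (Or.inr (Or.inl ⟨F, iF, iT, CodG.charP_of_card hl hF, n, hn, by rw [hF]; exact ho, e⟩)))
  | oplus n l f =>
    obtain ⟨F, iF, iT, hF, e⟩ := h
    exact Or.inr (Or.inr (Or.inr (Or.inr (Or.inl ⟨F, iF, iT, CodG.charP_of_card hl hF, n, hok, e⟩))))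
  | ominus n l f =>
    obtain ⟨F, iF, iT, a, b, hF, hab, e⟩ := h
    exact Or.inr (Or.inr (Or.inr (Or.inr (Or.inr (Or.inl
      ⟨F, iF, iT, CodG.charP_of_card hl hF, n, a, b, hok, hab, e⟩)))))
  | g2 l f =>
    obtain ⟨F, iF, iT, hF, e⟩ := h
    exact Or.inr (Or.inr (Or.inr (Or.inr (Or.inr (Or.inr (Or.inl
      ⟨F, iF, iT, CodG.charP_of_card hl hF, Or.inl ⟨by rw [hF]; exact hok, e⟩⟩))))))
  | f4 l f =>
    obtain ⟨F, iF, iT, hF, e⟩ := h
    exact Or.inr (Or.inr (Or.inr (Or.inr (Or.inr (Or.inr (Or.inl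
      ⟨F, iF, iT, CodG.charP_of_card hl hF, Or.inr (Or.inl e)⟩))))))
  | e6 l f =>
    obtain ⟨F, iF, iT, hF, e⟩ := h
    exact Or.inr (Or.inr (Or.inr (Or.inr (Or.inr (Or.inr (Or.inl
      ⟨F, iF, iT, CodG.charP_of_card hl hF, Or.inr (Or.inr (Or.inl e))⟩))))))
  | e7 l f =>
    obtain ⟨F, iF, iT, hF, e⟩ := h
    exact Or.inr (Or.inr (Or.inr (Or.inr (Or.inr (Or.inr (Or.inl
      ⟨F, iF, iT, CodG.charP_of_card hl hF, Or.inr (Or.inr (Or.inr (Or.inl e)))⟩))))))
  | e8 l f =>
    obtain ⟨F, iF, iT, hF, e⟩ := h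
    exact Or.inr (Or.inr (Or.inr (Or.inr (Or.inr (Or.inr (Or.inl
      ⟨F, iF, iT, CodG.charP_of_card hl hF, Or.inr (Or.inr (Or.inr (Or.inr e)))⟩))))))
  | te6 l f =>
    obtain ⟨F, iF, iT, hF, e⟩ := h
    exact Or.inr (Or.inr (Or.inr (Or.inr (Or.inr (Or.inr (Or.inr (Or.inl
      ⟨F, iF, iT, charP_pow hl hF, l ^ f, hpp, Or.inl ⟨hF, e⟩⟩)))))))
  | td4 l f =>
    obtain ⟨F, iF, iT, hF, e⟩ := h
    exact Or.inr (Or.inr (Or.inr (Or.inr (Or.inr (Or.inr (Or.inr (Or.inl
      ⟨F, iF, iT, charP_pow hl hF, l ^ f, hpp, Or.inr ⟨hF, e⟩⟩)))))))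
  | sz l f =>
    obtain ⟨F, iF, iT, m, hm, hF, hq, e⟩ := h
    exact Or.inr (Or.inr (Or.inr (Or.inr (Or.inr (Or.inr (Or.inr (Or.inr (Or.inl
      ⟨hok.1, F, iF, iT, m, hm, by rw [hF, hq], e⟩))))))))
  | ree l f =>
    obtain ⟨F, iF, iT, m, hm, hF, hq, e⟩ := h
    exact Or.inr (Or.inr (Or.inr (Or.inr (Or.inr (Or.inr (Or.inr (Or.inr (Or.inr (Or.inr
      ⟨hok.1, F, iF, iT, m, hm, by rw [hF, hq], e⟩)))))))))
  | tf4 l f =>
    obtain ⟨F, iF, iT, m, hm, hF, hq, e⟩ := h
    exact Or.inr (Or.inr (Or.inr (Or.inr (Or.inr (Or.inr (Or.inr (Or.inr (Or.inr (Or.inl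
      ⟨hok.1, F, iF, iT, m, hm, by rw [hF, hq], e⟩)))))))))

/-! ### the name of `L_n(q)` -/

theorem exists_pp' (F : Type w) [Field F] [Fintype F] : ∃ p f : ℕ, p.Prime ∧ 1 ≤ f ∧ Fintype.card F = p ^ f := by
  obtain ⟨p, f, hp, hf, h⟩ := (isPrimePow_nat_iff _).1 (Fintype.isPrimePow_card_of_field (α := F))
  exact ⟨p, f, hp, hf, h.symm⟩

theorem psl_name {L : Type v} [Group L] {F : Type w} [Field F] [Fintype F] {n p f : ℕ} (hp : p.Prime) (hf : 1 ≤ f)
    (hF : Fintype.card F = p ^ f) (hn : 4 ≤ n) (e : L ≃* ProjectiveSpecialLinearGroup (Fin n) F) :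
    Art.Real (.L n) p f (Nat.card L) ∧ OrdDiv.Real (.psl n (p ^ f)) L := by
  have := Fact.mk hp
  have : Fintype (GaloisField p f) := Fintype.ofFinite _
  have hK : Fintype.card (GaloisField p f) = p ^ f := by
    rw [← Nat.card_eq_fintype_card, GaloisField.card p f (by omega)]
  have e' := e.trans (LieClassical.FieldTransfer.pslCongr (ι := Fin n) (FiniteField.ringEquivOfCardEq (hF.trans hK.symm)))
  refine ⟨?_, GaloisField p f, inferInstance, inferInstance, hK, ⟨e'⟩⟩
  rw [Nat.card_congr e'.toEquiv]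
  exact psl_real hp hf hK (by omega) (fun h => by omega)

/-! ### the number theory -/

/-- T1 -/
def T1 : Prop := ∀ {n p f M r : ℕ}, 4 ≤ n → Art.Real (.L n) p f M → ¬ (n = 4 ∧ p ^ f = 3) → r.Prime → r ≠ p →
  Art.P r M ^ 4 < M

/-- T2 -/
def T2 : Prop := ∀ {X : Art.Sh} {n p f g a M M' : ℕ}, 4 ≤ n → Art.Real (.L n) p f M → Art.Real X p g M' →
  M = p ^ a * M' → M = M'

/-- T3 -/
def T3 : Prop := ∀ {n p f M m k : ℕ}, 4 ≤ n → Art.Real (.L n) p f M → 5 ≤ m → 2 * M = k * m.factorial → k ≤ 2 ^ m →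
  p ≤ m → (n = 4 ∧ p ^ f = 2) ∨ (m = 10 ∧ k = 544 ∧ n = 4 ∧ p ^ f = 4)

theorem fin43 : ∀ v ∈ [6, 7], ∀ a ∈ Art.ents 2 v,
    ¬ (6065280 % Art.val 2 a = 0 ∧ 6065280 / Art.val 2 a * (2 ^ v) ^ 2 < Art.val 2 a) := by
  decide +kernel

theorem card43 {p f M : ℕ} (h : Art.Real (.L 4) p f M) (hq : p ^ f = 3) : M = 6065280 := by
  have h1 := Art.val_eq h
  rw [← h1]
  unfold Art.val
  change (p ^ f) ^ Art.NN (.L 4) * Art.num (.L 4) (p ^ f) / Art.dd (.L 4) (p ^ f) = 6065280
  rw [hq]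
  decide +kernel

/-- `L_4(3)` -/
theorem no43 {X : Art.Sh} {r g k M : ℕ} (h : Art.Real X r g M) (hM : 6065280 = k * M) (hr3 : r ≠ 3)
    (hP : k * Art.P r M ^ 2 < M) (h4 : 6065280 < Art.P r M ^ 4) : False := by
  have hr := h.hp
  have hM0 : M ≠ 0 := by rintro rfl; simp at hM
  have h1 : Art.P r M ∣ 6065280 := (Art.P_dvd r M).trans (by rw [hM]; exact dvd_mul_left _ _)
  have h2 : 50 ≤ Art.P r M := by
    by_contra hlt
    have h5 : Art.P r M ^ 4 ≤ 49 ^ 4 := Nat.pow_le_pow_left (by omega) 4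
    omega
  have hfac : (6065280 : ℕ) = 2 ^ 7 * (3 ^ 6 * (5 * 13)) := by norm_num
  have h3 : r ∣ 6065280 := by
    by_contra hcon
    have h5 : Art.P r M = 1 := by
      apply Art.P_eq_one
      intro h6
      exact hcon (h6.trans (by rw [hM]; exact dvd_mul_left _ _))
    omega
  have h4' : r = 2 ∨ r = 5 ∨ r = 13 := by
    rw [hfac, hr.dvd_mul, hr.dvd_mul, hr.dvd_mul] at h3
    rcases h3 with h3 | h3 | h3 | h3
    · left; exact (Nat.prime_dvd_prime_iff_eq hr Nat.prime_two).1 (hr.dvd_of_dvd_pow h3)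
    · exact absurd ((Nat.prime_dvd_prime_iff_eq hr Nat.prime_three).1 (hr.dvd_of_dvd_pow h3)) hr3
    · right; left; exact (Nat.prime_dvd_prime_iff_eq hr (by norm_num)).1 h3
    · right; right; exact (Nat.prime_dvd_prime_iff_eq hr (by norm_num)).1 h3
  have h5 : ∀ v, M.factorization r = v → r ^ v ∣ 6065280 := fun v hv => by rw [← hv]; exact h1
  have h6 := h5 _ rfl
  rcases h4' with rfl | rfl | rfl
  · have h7 : M.factorization 2 ≤ 7 := by
      by_contra hlt
      have h8 : 2 ^ 8 ∣ 6065280 := (pow_dvd_pow 2 (by omega)).trans h6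
      revert h8
      decide
    have h8 : 5 < M.factorization 2 := by
      by_contra hlt
      have h9 : Art.P 2 M ≤ 2 ^ 5 := Nat.pow_le_pow_right (by norm_num) (by omega)
      omega
    have h9 := Art.P_prime_exp h
    have h10 := Art.mem_ents h h9
    have h11 := fin43 (M.factorization 2) (by
      rcases (show M.factorization 2 = 6 ∨ M.factorization 2 = 7 by omega) with h | h <;> rw [h] <;> decide) _ h10
    apply h11
    rw [Art.val_eq h]
    refine ⟨by rw [hM]; exact Nat.mul_mod_left _ _, ?_⟩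
    have h12 : 6065280 / M = k := by
      rw [hM]
      exact Nat.mul_div_cancel _ (Nat.pos_of_ne_zero hM0)
    rw [h12]
    exact hP
  · have h7 : M.factorization 5 ≤ 1 := by
      by_contra hlt
      have h8 : 5 ^ 2 ∣ 6065280 := (pow_dvd_pow 5 (by omega)).trans h6
      revert h8
      decide
    have h9 : Art.P 5 M ≤ 5 ^ 1 := Nat.pow_le_pow_right (by norm_num) h7
    omega
  · have h7 : M.factorization 13 ≤ 1 := by
      by_contra hlt
      have h8 : 13 ^ 2 ∣ 6065280 := (pow_dvd_pow 13 (by omega)).trans h6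
      revert h8
      decide
    have h9 : Art.P 13 M ≤ 13 ^ 1 := Nat.pow_le_pow_right (by norm_num) h7
    omega

/-- the order of `L_n(q)`, `n ≥ 4`, is `20160` only for `L_4(2)` -/
theorem ne20160 {n p f : ℕ} (hn : 4 ≤ n) (h : Art.Real (.L n) p f 20160) : n = 4 ∧ p ^ f = 2 := by
  have hp := h.hp
  have hf := h.hf
  have h9 := Art.P_prime_exp h
  change f * (n * (n - 1) / 2) = _ at h9
  have h1 : 6 ≤ n * (n - 1) / 2 := by
    rw [Nat.le_div_iff_mul_le (by norm_num)]
    calc 6 * 2 = 4 * 3 := rfl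
      _ ≤ n * (n - 1) := Nat.mul_le_mul hn (by omega)
  have h2 : 6 ≤ f * (n * (n - 1) / 2) := le_trans h1 (Nat.le_mul_of_pos_left _ hf)
  have h3 : p ^ (Nat.factorization 20160 p) ∣ 20160 := Nat.ordProj_dvd _ _
  have h4 : p ^ 6 ∣ 20160 := (pow_dvd_pow p (by omega)).trans h3
  have hp2 : p = 2 := by
    by_contra hne
    have h5 : 3 ≤ p := by
      have := hp.two_le
      omega
    have h6 : p ≤ 5 := by
      by_contra hlt
      have h7 : 6 ^ 6 ≤ p ^ 6 := Nat.pow_le_pow_left (by omega) 6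
      have h8 := Nat.le_of_dvd (by norm_num) h4
      omega
    interval_cases p
    · revert h4; decide
    · revert h4; decide
    · revert h4; decide
  subst hp2
  have h5 : Nat.factorization 20160 2 ≤ 6 := by
    by_contra hlt
    have h8 : 2 ^ 7 ∣ 20160 := (pow_dvd_pow 2 (by omega)).trans h3
    revert h8
    decide
  have h6 : f = 1 := by
    by_contra hne
    have h7 : 2 * 6 ≤ f * (n * (n - 1) / 2) := Nat.mul_le_mul (by omega) h1
    omega
  subst h6
  refine ⟨?_, by norm_num⟩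
  by_contra hne
  have h7 : 10 ≤ n * (n - 1) / 2 := by
    rw [Nat.le_div_iff_mul_le (by norm_num)]
    calc 10 * 2 = 5 * 4 := rfl
      _ ≤ n * (n - 1) := Nat.mul_le_mul (by omega) (by omega)
  omega

theorem j2_val : ∀ x ∈ OrdDiv.spor, x.1 = .j2 → x.2 = 604800 := by decide +kernel

/-! ### the theorem -/

set_option maxHeartbeats 800000 in
/-- a nonabelian simple group whose codegrees are codegrees of `L_n(q)`, `n ≥ 4`, `(n, q) ≠ (4, 2)`, is `L_n(q)` -/
theorem simple_iso (t1 : T1) (t2 : T2) (t3 : T3) {S : Type u} [Group S] [Finite S] [IsSimpleGroup S]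
    (hna : ¬ ∀ a b : S, a * b = b * a) (hN : Names.Nam S)
    (hJ : Spor.IsoJ2 S → ∃ χ : IrrCharacter S, 20 ≤ charDegree (χ : S → ℂ))
    {L : Type v} [Group L] [Finite L] [IsSimpleGroup L] {F : Type w} [Field F] [Fintype F] {n : ℕ}
    (hn : 4 ≤ n) (h42 : ¬ (n = 4 ∧ Fintype.card F = 2)) (e : L ≃* ProjectiveSpecialLinearGroup (Fin n) F)
    (hsub : Sub S L) : Nonempty (S ≃* L) := by
  obtain ⟨p, f, hp, hf, hF⟩ := exists_pp' F
  rw [hF] at h42
  obtain ⟨hL, hLr⟩ := psl_name hp hf hF hn e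
  obtain ⟨k, hk0, hk, h⟩ := CodK.exists_mult hsub
  have hpS := CodK.char_dvd hp hF hn e hna hk0 hk h
  have hna' : ¬ IsMulCommutative S := fun hc => hna fun a b => hc.is_comm.comm a b
  have hne_one : ∀ θ : IrrCharacter S, 1 < charDegree (θ : S → ℂ) → θ ≠ _root_.Cfsg.Agent.H677.CodMultiset.one S := by
    rintro θ hθ rfl
    rw [charDegree_one] at hθ
    exact lt_irrefl _ hθ
  rcases hN with ⟨m, hm, hr, hc⟩ | ⟨g, X, r, f', hg, hr, hc⟩ | ⟨x, hx, hr, hc⟩
  · -- alternating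
    exfalso
    obtain ⟨e1⟩ := hr
    have h1 := CodK.mult_lt hk h
    have h2 : Nat.card (ConjClasses S) = Nat.card (ConjClasses (alternatingGroup (Fin m))) := by
      have hf1 : Function.Surjective (ConjClasses.map e1.toMonoidHom) :=
        ConjClasses.map_surjective e1.surjective
      have hf2 : Function.Surjective (ConjClasses.map e1.symm.toMonoidHom) :=
        ConjClasses.map_surjective e1.symm.surjective
      exact le_antisymm (Nat.card_le_card_of_surjective _ hf2) (Nat.card_le_card_of_surjective _ hf1)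
    obtain ⟨h3, h4⟩ := S4198.result m hm
    have hk1 : k < 2 ^ (m - 2) := by omega
    have hk2 : k ≤ 2 ^ m := hk1.le.trans (Nat.pow_le_pow_right (by norm_num) (by omega))
    have hM : 2 * Nat.card L = k * m.factorial := by rw [hk, ← hc]; ring
    have hpm : p ≤ m := (hp.dvd_factorial).1 (hpS.trans ⟨2, by rw [← hc, mul_comm]⟩)
    rcases t3 hn hL hm hM hk2 hpm with h5 | ⟨rfl, rfl, -, -⟩
    · exact h42 h5
    · norm_num at hk1
  · -- Lie type
    have hrp := hc.hp
    have := Fact.mk hrp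
    obtain ⟨θ, hθ, -⟩ := H761.LieExt.lie_ext hna' (lieChar hg hr hc)
    have hθP : charDegree (θ : S → ℂ) = Art.P r (Nat.card S) := hθ
    have hlt := hc.lt_cube
    have hP1 : 1 < Art.P r (Nat.card S) := by
      by_contra hcon
      have h5 : Art.P r (Nat.card S) ^ 3 ≤ 1 ^ 3 := Nat.pow_le_pow_left (by omega) 3
      have h6 : 1 < Nat.card S := Finite.one_lt_card
      omega
    have hθ1 : θ ≠ _root_.Cfsg.Agent.H677.CodMultiset.one S := hne_one θ (by rw [hθP]; exact hP1)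
    by_cases hrq : r = p
    · subst hrq
      obtain ⟨a, ha⟩ := CodK.mult_pow hp hF hn e hk0 hk h θ hθ1 hθ
      have hM := t2 hn hL hc (by rw [hk, ha])
      rw [hM] at hL
      rcases Art.same_char hL hc with ⟨h5, h6⟩ | h5
      · subst h5
        subst h6
        have hgn : g = .psl n (r ^ f) := by
          cases hg
          rfl
        rw [hgn] at hr
        exact Iso.real_unique _ hr hLr
      · exfalso
        rw [h5] at hL
        exact h42 (ne20160 hn hL)
    · exfalso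
      obtain ⟨h5, h6⟩ := CodK.lt_four hk h θ hθ1 hθP hlt
      have h7 : Art.P r (Nat.card S) ≤ Art.P r (Nat.card L) :=
        Art.P_mono hrp Nat.card_pos.ne' (by rw [hk]; exact dvd_mul_left _ _)
      by_cases h43 : n = 4 ∧ p ^ f = 3
      · obtain ⟨rfl, hq⟩ := h43
        have h8 := card43 hL hq
        have hp3 : p = 3 := by
          have h9 : p ∣ 3 := by rw [← hq]; exact dvd_pow_self p (by omega)
          exact (Nat.prime_dvd_prime_iff_eq hp Nat.prime_three).1 h9
        rw [h8] at h6 hk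
        refine no43 hc hk (by rw [← hp3]; exact hrq) ?_ h6
        have h9 := CodK.mult_sq_lt (hk.symm ▸ h8) h θ hθ1
        rwa [hθP] at h9
      · have h8 := t1 hn hL h43 hrp hrq
        have h9 : Art.P r (Nat.card S) ^ 4 ≤ Art.P r (Nat.card L) ^ 4 := Nat.pow_le_pow_left h7 4
        omega
  · -- sporadic
    exfalso
    obtain ⟨χ, hχ⟩ := exists_ne_one (L := S)
    have h2 := CodK.two_le hna χ hχ
    have h3 := CodK.mult_sq_lt hk h χ hχ
    have h4 : k * 2 ^ 2 ≤ k * charDegree (χ : S → ℂ) ^ 2 := Nat.mul_le_mul_left _ (Nat.pow_le_pow_left h2 2)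
    obtain ⟨h5, h6, -, -⟩ := H82.SporNum.spor_num hx hn hL (by rw [hk, hc]) (by rw [← hc]; omega) (by rw [← hc]; exact hpS)
    rw [h5] at hr
    obtain ⟨χ', hχ'⟩ := hJ hr
    have h7 := CodK.mult_sq_lt hk h χ' (hne_one χ' (by omega))
    have h8 := j2_val x hx h5
    rw [hc, h8, h6] at h7
    have h9 : 1632 * 20 ^ 2 ≤ 1632 * charDegree (χ' : S → ℂ) ^ 2 := Nat.mul_le_mul_left _ (Nat.pow_le_pow_left hχ' 2)
    omega

end Cfsg.Agent.H78.CodL
end

private theorem dce_eb2b7ad9ef8c : _root_.True := by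
  try have : _root_.True := by simp only [_root_.Cfsg.Agent.H82.SporNum.prs.eq_1]
  try have : _root_.True := by simp only [_root_.Cfsg.Agent.H82.SporNum.chk.eq_1]
  try have : _root_.True := by simp only [_root_.Cfsg.Agent.H82.SporNum.numL.eq_1]
  try have : _root_.True := by simp only [_root_.Cfsg.Agent.H82.SporNum.numL.eq_def]
  try have : _root_.True := by simp only [_root_.Cfsg.Agent.H82.SporNum.numL.eq_2]
  exact _root_.True.intro
end
end
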